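import Cfsg.Agent.Lib.CompLen.Basic

/-!
# Composition length of permutation groups: the reductions for intransitive and imprimitive groups
-/

set_option autoImplicit false

namespace Cfsg.Agent.CompLen

open MulAction

universe u v

/-- Number of orbits. -/
noncomputable def orb (G : Type u) (X : Type v) [Group G] [MulAction G X] : ℕ :=
  Nat.card (Quotient (orbitRel G X))

/-- The bound in degree `n`. -/
def Bnd (n : ℕ) : Prop :=
  ∀ (G : Type u) [Group G] [Finite G] [MulAction G (Fin n)] [FaithfulSMul G (Fin n)] (l : ℕ),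
    Ser (⊤ : Subgroup G) l → 3 * l + 4 * orb G (Fin n) ≤ 4 * n

/-- The bound for all degrees less than `n`. -/
def BndBelow (n : ℕ) : Prop := ∀ m < n, Bnd.{u} m

theorem Bnd.apply {n : ℕ} (hB : Bnd.{u} n) {G : Type u} [Group G] [Finite G] {X : Type v}
    [MulAction G X] [FaithfulSMul G X] [Finite X] (hX : Nat.card X = n) {l : ℕ}
    (h : Ser (⊤ : Subgroup G) l) : 3 * l + 4 * orb G X ≤ 4 * n := by
  let e : X ≃ Fin n := (Finite.equivFin X).trans (finCongr hX)
  let ψ : G →* Equiv.Perm (Fin n) := e.permCongrHom.toMonoidHom.comp (toPermHom G X)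
  letI : MulAction G (Fin n) := MulAction.compHom (Fin n) ψ
  have hsm : ∀ (g : G) (x : X), g • e x = e (g • x) := fun g x => by
    show e.permCongr (toPermHom G X g) (e x) = _
    simp
  haveI : FaithfulSMul G (Fin n) := ⟨fun {a b} hab => eq_of_smul_eq_smul fun x : X =>
    e.injective (by rw [← hsm, ← hsm]; exact hab (e x))⟩
  have ho : orb G X = orb G (Fin n) := by
    refine Nat.card_congr (Quotient.congr e fun a b => ?_)
    simp only [orbitRel_apply, mem_orbit_iff]
    exact exists_congr fun g => by rw [hsm, e.apply_eq_iff_eq]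
  rw [ho]
  exact hB G l h

/-- The transitive form, for an injective homomorphism into a symmetric group. -/
theorem Bnd.apply_hom {n : ℕ} (hB : Bnd.{u} n) {G : Type u} [Group G] [Finite G] {X : Type v}
    [Finite X] [Nonempty X] (φ : G →* Equiv.Perm X) (hφ : Function.Injective φ)
    (hX : Nat.card X = n) {l : ℕ} (h : Ser (⊤ : Subgroup G) l) : 3 * l + 4 ≤ 4 * n := by
  letI : MulAction G X := MulAction.compHom X φ
  haveI : FaithfulSMul G X := ⟨fun {a b} hab => hφ (Equiv.ext fun x => hab x)⟩
  have h1 := hB.apply hX h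
  haveI : Nonempty (Quotient (orbitRel G X)) := ⟨Quotient.mk _ (Classical.arbitrary X)⟩
  have : 0 < orb G X := Nat.card_pos
  omega

variable {G : Type u} [Group G] [Finite G] {X : Type v} [MulAction G X] [FaithfulSMul G X]
  [Finite X]

/-- An intransitive group obeys the bound. -/
theorem intransitive_bound (hB : BndBelow.{u} (Nat.card X)) (x₀ y₀ : X)
    (hy₀ : y₀ ∉ orbit G x₀) {l : ℕ} (h : Ser (⊤ : Subgroup G) l) :
    3 * l + 4 * orb G X ≤ 4 * Nat.card X := by
  classical
  let C : SubMulAction G X :=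
    { carrier := (orbit G x₀)ᶜ
      smul_mem' := fun g x hx hgx => hx (by
        have := smul_orbit g⁻¹ x₀ ▸ Set.smul_mem_smul_set (a := g⁻¹) hgx
        simpa using this) }
  let φ : G →* Equiv.Perm (orbit G x₀) := toPermHom G (orbit G x₀)
  obtain ⟨a, b, ha, hb, hab⟩ := h.split_top φ.ker
  have hcard : Nat.card (orbit G x₀) + Nat.card C = Nat.card X := by
    rw [← Nat.card_sum]
    exact Nat.card_congr (Equiv.Set.sumCompl (orbit G x₀))
  have h1 : Nonempty (orbit G x₀) := ⟨⟨x₀, mem_orbit_self x₀⟩⟩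
  have h2 : Nonempty C := ⟨⟨y₀, hy₀⟩⟩
  have hpos1 : 0 < Nat.card (orbit G x₀) := Nat.card_pos
  have hpos2 : 0 < Nat.card C := Nat.card_pos
  have hQ := (hB (Nat.card (orbit G x₀)) (by omega)).apply_hom (QuotientGroup.kerLift φ)
    (QuotientGroup.kerLift_injective φ) rfl hb
  haveI : FaithfulSMul φ.ker C := ⟨fun {p q} hpq => Subtype.ext (eq_of_smul_eq_smul fun x : X => by
    by_cases hx : x ∈ orbit G x₀
    · have e1 := congrArg (fun σ : Equiv.Perm (orbit G x₀) => ((σ ⟨x, hx⟩ : orbit G x₀) : X))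
        (p.2 : φ p = 1)
      have e2 := congrArg (fun σ : Equiv.Perm (orbit G x₀) => ((σ ⟨x, hx⟩ : orbit G x₀) : X))
        (q.2 : φ q = 1)
      exact e1.trans e2.symm
    · exact congrArg Subtype.val (hpq ⟨x, hx⟩))⟩
  have hK := (hB (Nat.card C) (by omega)).apply (G := φ.ker) (X := C) rfl ha
  have ho : orb G X ≤ orb φ.ker C + 1 := by
    let f : Option (Quotient (orbitRel φ.ker C)) → Quotient (orbitRel G X) := fun o =>
      o.elim (Quotient.mk _ x₀) (Quotient.lift (fun c : C => Quotient.mk _ (c : X))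
        (fun c d hcd => Quotient.sound (by
          obtain ⟨k, hk⟩ := hcd
          exact ⟨(k : G), congrArg Subtype.val hk⟩)))
    have hf : Function.Surjective f := fun q => Quotient.inductionOn q fun x => by
      by_cases hx : x ∈ orbit G x₀
      · exact ⟨none, Quotient.sound (mem_orbit_symm.mp hx)⟩
      · exact ⟨some (Quotient.mk _ ⟨x, hx⟩), rfl⟩
    exact (Nat.card_le_card_of_surjective f hf).trans (by rw [Finite.card_option]; rfl)
  omega

/-- A transitive imprimitive group obeys the bound. -/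
theorem imprimitive_bound (hB : BndBelow.{u} (Nat.card X)) [IsPretransitive G X] (x₀ : X)
    (M : Subgroup G) (hHM : stabilizer G x₀ < M) (hM : M ≠ ⊤) {l : ℕ}
    (h : Ser (⊤ : Subgroup G) l) : 3 * l + 4 ≤ 4 * Nat.card X := by
  let φ : G →* Equiv.Perm (G ⧸ M) := toPermHom G (G ⧸ M)
  have hKM : φ.ker ≤ M := fun k hk => by
    have := congrArg (fun σ : Equiv.Perm (G ⧸ M) => σ ((1 : G) : G ⧸ M)) (hk : φ k = 1)
    simpa [φ, MulAction.toPermHom_apply, QuotientGroup.eq] using this
  have hm : Nat.card (G ⧸ M) < Nat.card X := by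
    rw [← index_stabilizer_of_transitive G x₀, ← Subgroup.index_eq_card]
    exact Subgroup.index_strictAnti hHM
  obtain ⟨a, b, ha, hb, hab⟩ := h.split_top φ.ker
  have hQ := (hB _ hm).apply_hom (QuotientGroup.kerLift φ) (QuotientGroup.kerLift_injective φ)
    rfl hb
  -- the kernel respects the blocks
  choose s hs using fun x : X => exists_smul_eq G x₀ x
  have hwd : ∀ (g : G) (x : X), g • x₀ = x → ((g : G ⧸ M)) = (s x : G ⧸ M) := fun g x hgx => by
    rw [QuotientGroup.eq]
    apply hHM.le
    rw [mem_stabilizer_iff, mul_smul, hs, ← hgx, inv_smul_smul]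
  let f : Quotient (orbitRel φ.ker X) → G ⧸ M := Quotient.lift (fun x => (s x : G ⧸ M)) (by
    rintro x y ⟨k, rfl⟩
    change ((s ((k : G) • y) : G) : G ⧸ M) = (s y : G ⧸ M)
    rw [← hwd ((k : G) * s y) _ (by rw [mul_smul, hs])]
    rw [QuotientGroup.eq]
    have := hKM ((inferInstance : φ.ker.Normal).conj_mem _ (inv_mem k.2) (s y)⁻¹)
    simpa [mul_assoc] using this)
  have hf : Function.Surjective f := fun q => QuotientGroup.induction_on q fun g =>
    ⟨Quotient.mk _ (g • x₀), (hwd g _ rfl).symm⟩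
  have hmorb : Nat.card (G ⧸ M) ≤ orb φ.ker X := Nat.card_le_card_of_surjective f hf
  have h2 : 2 ≤ Nat.card (G ⧸ M) := by
    rw [← Subgroup.index_eq_card]
    exact Subgroup.one_lt_index_of_ne_top hM
  obtain ⟨y₀, hy₀⟩ : ∃ y₀, y₀ ∉ orbit φ.ker x₀ := by
    by_contra hcon
    push Not at hcon
    have : IsPretransitive φ.ker X := isPretransitive_iff_orbit_eq_univ x₀ |>.mpr
      (Set.eq_univ_of_forall hcon)
    have : orb φ.ker X ≤ 1 := Finite.card_le_one_iff_subsingleton.mpr
      ((pretransitive_iff_subsingleton_quotient φ.ker X).mp this)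
    omega
  have hK := intransitive_bound (G := φ.ker) hB x₀ y₀ hy₀ ha
  omega

end Cfsg.Agent.CompLen
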