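import Mathlib

/-!
# Lengths of strictly increasing subnormal series
-/

set_option autoImplicit false

namespace Cfsg.Agent.CompLen

variable {G : Type*} [Group G]

/-- `Ser H l`: a strictly increasing series of length `l` from `⊥` to `H`, each term normal in
the next one. -/
inductive Ser : Subgroup G → ℕ → Prop
  | base : Ser ⊥ 0
  | step {K H : Subgroup G} {l : ℕ} : Ser K l → K < H →
      (∀ h ∈ H, ∀ k ∈ K, h * k * h⁻¹ ∈ K) → Ser H (l + 1)

/-- Number of prime factors with multiplicity. -/
def omega' (n : ℕ) : ℕ := n.primeFactorsList.length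

lemma omega'_one : omega' 1 = 0 := by simp [omega']

lemma omega'_mul {a b : ℕ} (ha : a ≠ 0) (hb : b ≠ 0) : omega' (a * b) = omega' a + omega' b := by
  rw [omega', omega', omega', (Nat.perm_primeFactorsList_mul ha hb).length_eq, List.length_append]

lemma omega'_dvd_lt {a b : ℕ} (hb : b ≠ 0) (h : a ∣ b) (hne : a ≠ b) : omega' a + 1 ≤ omega' b := by
  obtain ⟨c, rfl⟩ := h
  have ha : a ≠ 0 := fun e => hb (by simp [e])
  have hc : c ≠ 0 := fun e => hb (by simp [e])
  have hc1 : c ≠ 1 := fun e => hne (by simp [e])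
  rw [omega'_mul ha hc]
  have : c.primeFactorsList ≠ [] := fun e => by
    rcases ((Nat.primeFactorsList_eq_nil c).mp e) with h | h <;> omega
  have := List.length_pos_of_ne_nil this
  simp only [omega'] at *
  omega

lemma omega'_dvd_le {a b : ℕ} (hb : b ≠ 0) (h : a ∣ b) : omega' a ≤ omega' b := by
  by_cases e : a = b
  · rw [e]
  · have := omega'_dvd_lt hb h e
    omega

lemma two_pow_omega'_le {n : ℕ} (hn : n ≠ 0) : 2 ^ omega' n ≤ n := by
  calc 2 ^ omega' n = (n.primeFactorsList.map fun _ => 2).prod := by simp [omega']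
    _ ≤ (n.primeFactorsList.map id).prod :=
      List.prod_le_prod' fun p hp => (Nat.prime_of_mem_primeFactorsList hp).two_le
    _ = n := by rw [List.map_id, Nat.prod_primeFactorsList hn]

lemma omega'_le_log {n : ℕ} (hn : n ≠ 0) : omega' n ≤ Nat.log 2 n :=
  Nat.le_log_of_pow_le (by norm_num) (two_pow_omega'_le hn)

/-- A series of `G` induces one on a normal subgroup and one on the quotient. -/
theorem Ser.split (N : Subgroup G) [hN : N.Normal] {H : Subgroup G} {l : ℕ} (h : Ser H l) :
    ∃ a b, Ser (H.subgroupOf N) a ∧ Ser (H.map (QuotientGroup.mk' N)) b ∧ l ≤ a + b := by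
  induction h with
  | base => exact ⟨0, 0, by rw [Subgroup.bot_subgroupOf]; exact .base,
      by rw [Subgroup.map_bot]; exact .base, by simp⟩
  | @step K H l _ hlt hn ih =>
    obtain ⟨a, b, ha, hb, hab⟩ := ih
    have hn1 : ∀ h ∈ H.subgroupOf N, ∀ k ∈ K.subgroupOf N, h * k * h⁻¹ ∈ K.subgroupOf N := by
      intro h hh k hk
      simp only [Subgroup.mem_subgroupOf] at hh hk ⊢
      simpa using hn _ hh _ hk
    have hn2 : ∀ h ∈ H.map (QuotientGroup.mk' N), ∀ k ∈ K.map (QuotientGroup.mk' N),
        h * k * h⁻¹ ∈ K.map (QuotientGroup.mk' N) := by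
      rintro _ ⟨h, hh, rfl⟩ _ ⟨k, hk, rfl⟩
      exact ⟨h * k * h⁻¹, hn h hh k hk, by simp only [map_mul, map_inv]⟩
    have hle1 : K.subgroupOf N ≤ H.subgroupOf N := Subgroup.comap_mono hlt.le
    have hle2 : K.map (QuotientGroup.mk' N) ≤ H.map (QuotientGroup.mk' N) :=
      Subgroup.map_mono hlt.le
    by_cases e1 : K.subgroupOf N = H.subgroupOf N
    · have e2 : K.map (QuotientGroup.mk' N) ≠ H.map (QuotientGroup.mk' N) := by
        intro e2
        obtain ⟨x, hxH, hxK⟩ := SetLike.exists_of_lt hlt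
        apply hxK
        have : QuotientGroup.mk' N x ∈ K.map (QuotientGroup.mk' N) :=
          e2 ▸ Subgroup.mem_map_of_mem _ hxH
        obtain ⟨k, hk, hkx⟩ := this
        have hkN : k⁻¹ * x ∈ N := QuotientGroup.eq.mp hkx
        have hkH : k⁻¹ * x ∈ H := H.mul_mem (H.inv_mem (hlt.le hk)) hxH
        have : (⟨_, hkN⟩ : N) ∈ K.subgroupOf N := e1 ▸ Subgroup.mem_subgroupOf.mpr hkH
        rw [Subgroup.mem_subgroupOf] at this
        simpa using K.mul_mem hk this
      exact ⟨a, b + 1, e1 ▸ ha, hb.step (lt_of_le_of_ne hle2 e2) hn2, by omega⟩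
    · by_cases e2 : K.map (QuotientGroup.mk' N) = H.map (QuotientGroup.mk' N)
      · exact ⟨a + 1, b, ha.step (lt_of_le_of_ne hle1 e1) hn1, e2 ▸ hb, by omega⟩
      · exact ⟨a + 1, b + 1, ha.step (lt_of_le_of_ne hle1 e1) hn1,
          hb.step (lt_of_le_of_ne hle2 e2) hn2, by omega⟩

/-- Series length is subadditive for a normal subgroup. -/
theorem Ser.split_top (N : Subgroup G) [N.Normal] {l : ℕ} (h : Ser (⊤ : Subgroup G) l) :
    ∃ a b, Ser (⊤ : Subgroup N) a ∧ Ser (⊤ : Subgroup (G ⧸ N)) b ∧ l ≤ a + b := by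
  obtain ⟨a, b, ha, hb, hab⟩ := h.split N
  rw [Subgroup.top_subgroupOf] at ha
  rw [Subgroup.map_top_of_surjective _ (QuotientGroup.mk'_surjective N)] at hb
  exact ⟨a, b, ha, hb, hab⟩

/-- A series of a quotient by a nontrivial normal subgroup lifts to a longer one. -/
theorem Ser.lift (N : Subgroup G) [N.Normal] (hN : N ≠ ⊥) {H : Subgroup (G ⧸ N)} {b : ℕ}
    (h : Ser H b) : Ser (H.comap (QuotientGroup.mk' N)) (b + 1) := by
  induction h with
  | base =>
    rw [MonoidHom.comap_bot, QuotientGroup.ker_mk']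
    refine Ser.base.step (bot_lt_iff_ne_bot.mpr hN) fun h _ k hk => ?_
    rw [Subgroup.mem_bot] at hk ⊢
    subst hk
    simp
  | @step K H l _ hlt hn ih =>
    refine ih.step ((Subgroup.comap_lt_comap_of_surjective
      (QuotientGroup.mk'_surjective N)).mpr hlt) fun h hh k hk => ?_
    simp only [Subgroup.mem_comap] at hh hk ⊢
    simpa using hn _ hh _ hk

theorem Ser.lift_top (N : Subgroup G) [N.Normal] (hN : N ≠ ⊥) {b : ℕ}
    (h : Ser (⊤ : Subgroup (G ⧸ N)) b) : Ser (⊤ : Subgroup G) (b + 1) := by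
  have := h.lift N hN
  rwa [Subgroup.comap_top] at this

/-- Series transport along isomorphisms. -/
theorem Ser.map_equiv {G' : Type*} [Group G'] (e : G ≃* G') {H : Subgroup G} {l : ℕ}
    (h : Ser H l) : Ser (H.map (e : G →* G')) l := by
  induction h with
  | base => rw [Subgroup.map_bot]; exact .base
  | @step K H l _ hlt hn ih =>
    refine ih.step (Subgroup.map_lt_map_iff_of_injective (f := (e : G →* G')) e.injective |>.mpr hlt)
      ?_
    rintro _ ⟨h, hh, rfl⟩ _ ⟨k, hk, rfl⟩
    exact ⟨h * k * h⁻¹, hn h hh k hk, by simp only [map_mul, map_inv]⟩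

theorem Ser.top_equiv {G' : Type*} [Group G'] (e : G ≃* G') {l : ℕ}
    (h : Ser (⊤ : Subgroup G) l) : Ser (⊤ : Subgroup G') l := by
  have := h.map_equiv e
  rwa [Subgroup.map_top_of_surjective _ e.surjective] at this

/-- Any subgroup carries a series at most `Ω(index)` shorter. -/
theorem Ser.restrict [Finite G] (A : Subgroup G) {H : Subgroup G} {l : ℕ} (h : Ser H l) :
    ∃ a, Ser (H.subgroupOf A) a ∧ l ≤ a + omega' (A.relIndex H) := by
  induction h with
  | base => exact ⟨0, by rw [Subgroup.bot_subgroupOf]; exact .base, by simp⟩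
  | @step K H l _ hlt hn ih =>
    obtain ⟨a, ha, hal⟩ := ih
    have hle1 : K.subgroupOf A ≤ H.subgroupOf A := Subgroup.comap_mono hlt.le
    have hKn : (K.subgroupOf H).Normal := ⟨fun k hk h => by
      rw [Subgroup.mem_subgroupOf] at hk ⊢
      simpa using hn h h.2 _ hk⟩
    -- the relative index of `A` can only grow
    have hd : A.relIndex K ∣ A.relIndex H := by
      have h1 : (A ⊓ K).relIndex H = A.relIndex K * K.relIndex H := by
        rw [← Subgroup.relIndex_inf_mul_relIndex, inf_of_le_left hlt.le]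
      have h2 : (A ⊓ K).relIndex H = (A ⊓ K).relIndex (A ⊓ H) * (A ⊓ H).relIndex H :=
        (Subgroup.relIndex_mul_relIndex _ _ _ (inf_le_inf_left A hlt.le) inf_le_right).symm
      have h3 : (A ⊓ K).relIndex (A ⊓ H) = K.relIndex (A ⊓ H) := by
        rw [← Subgroup.inf_relIndex_right K (A ⊓ H)]
        congr 1
        rw [inf_comm K, inf_assoc, inf_of_le_right hlt.le]
      have h4 : K.relIndex (A ⊓ H) ∣ K.relIndex H := by
        rw [← Subgroup.relIndex_subgroupOf (inf_le_right : A ⊓ H ≤ H)]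
        exact (K.subgroupOf H).relIndex_dvd_index_of_normal ((A ⊓ H).subgroupOf H)
      rw [Subgroup.inf_relIndex_right] at h2
      obtain ⟨e, he⟩ := h4
      refine ⟨e, ?_⟩
      have hpos : K.relIndex (A ⊓ H) ≠ 0 := Subgroup.index_ne_zero_of_finite
      refine mul_left_cancel₀ hpos ?_
      rw [← h3] at he ⊢
      calc (A ⊓ K).relIndex (A ⊓ H) * A.relIndex H
          = A.relIndex K * K.relIndex H := by rw [← h2, h1]
        _ = _ := by rw [he]; ring
    have hne0 : A.relIndex H ≠ 0 := Subgroup.index_ne_zero_of_finite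
    by_cases e1 : K.subgroupOf A = H.subgroupOf A
    · refine ⟨a, e1 ▸ ha, ?_⟩
      have hne : A.relIndex K ≠ A.relIndex H := by
        intro e
        have hinf : A ⊓ K = A ⊓ H := by
          ext x
          simp only [Subgroup.mem_inf, and_congr_right_iff]
          intro hx
          have := congrArg (fun S : Subgroup A => (⟨x, hx⟩ : A) ∈ S) e1
          simpa [Subgroup.mem_subgroupOf] using this
        have hK := Subgroup.relIndex_mul_relIndex (⊥ : Subgroup G) (A ⊓ K) K bot_le inf_le_right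
        have hH := Subgroup.relIndex_mul_relIndex (⊥ : Subgroup G) (A ⊓ H) H bot_le inf_le_right
        rw [Subgroup.inf_relIndex_right, hinf] at hK
        rw [Subgroup.inf_relIndex_right] at hH
        rw [e, hH, Subgroup.relIndex_bot_left, Subgroup.relIndex_bot_left] at hK
        exact hlt.ne (Subgroup.eq_of_le_of_card_ge hlt.le hK.le)
      have := omega'_dvd_lt hne0 hd hne
      omega
    · refine ⟨a + 1, ha.step (lt_of_le_of_ne hle1 e1) (fun h hh k hk => ?_), ?_⟩
      · simp only [Subgroup.mem_subgroupOf] at hh hk ⊢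
        simpa using hn _ hh _ hk
      · have := omega'_dvd_le hne0 hd
        omega

theorem Ser.restrict_top [Finite G] (A : Subgroup G) {l : ℕ} (h : Ser (⊤ : Subgroup G) l) :
    ∃ a, Ser (⊤ : Subgroup A) a ∧ l ≤ a + omega' A.index := by
  obtain ⟨a, ha, hl⟩ := h.restrict A
  rw [Subgroup.top_subgroupOf] at ha
  rw [Subgroup.relIndex_top_right] at hl
  exact ⟨a, ha, hl⟩

theorem Ser.le_omega' [Finite G] {l : ℕ} (h : Ser (⊤ : Subgroup G) l) :
    l ≤ omega' (Nat.card G) := by
  obtain ⟨a, ha, hl⟩ := h.restrict_top ⊥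
  rw [Subgroup.index_bot] at hl
  suffices a = 0 by omega
  generalize (⊤ : Subgroup (⊥ : Subgroup G)) = T at ha
  cases ha with
  | base => rfl
  | step _ hlt _ =>
    exfalso
    obtain ⟨x, -, hx⟩ := SetLike.exists_of_lt hlt
    exact hx (by rw [Subsingleton.elim x 1]; exact one_mem _)

theorem Ser.le_one_of_simple [IsSimpleGroup G] {l : ℕ} (h : Ser (⊤ : Subgroup G) l) : l ≤ 1 := by
  generalize hT : (⊤ : Subgroup G) = T at h
  cases h with
  | base => omega
  | @step K _ l' hK hlt hn =>
    subst hT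
    have hnorm : K.Normal := ⟨fun k hk g => hn g (Subgroup.mem_top g) k hk⟩
    rcases hnorm.eq_bot_or_eq_top with h | h
    · subst h
      generalize hB : (⊥ : Subgroup G) = B at hK
      cases hK with
      | base => omega
      | step _ hlt' _ => exact absurd (hB ▸ hlt') not_lt_bot
    · exact absurd h hlt.ne

end Cfsg.Agent.CompLen
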