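import Cfsg.Agent.Lib.CompLen.Socle

/-!
# Composition length: the three kinds of socle
-/

set_option autoImplicit false

namespace Cfsg.Agent.CompLen

open MulAction

universe u v

variable {G : Type u} [Group G] [Finite G] {N H : Subgroup G}

lemma three_le_card_factor (s : Sit N H) {T : Subgroup G} (hT : IsFactor N T) :
    3 ≤ Nat.card T := by
  by_contra hlt
  refine s.hyp.not_comm hT fun a ha b hb => ?_
  have h1 : 0 < Nat.card T := Nat.card_pos
  rcases (show Nat.card T = 1 ∨ Nat.card T = 2 by omega) with h | h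
  · have := (Nat.card_eq_one_iff_unique.mp h).1
    exact congrArg Subtype.val (Subsingleton.elim (⟨a, ha⟩ * ⟨b, hb⟩ : T) (⟨b, hb⟩ * ⟨a, ha⟩))
  · haveI : Fact (Nat.Prime 2) := ⟨Nat.prime_two⟩
    haveI := isCyclic_of_prime_card h
    exact congrArg Subtype.val (IsMulCommutative.is_comm.comm (⟨a, ha⟩ : T) ⟨b, hb⟩)

/-- At most two factors: a series of the socle has length at most their number. -/
lemma Sit.ser_N (s : Sit N H) (ht : Nat.card (Fac N) ≤ 2) {l : ℕ}
    (h : Ser (⊤ : Subgroup N) l) : l ≤ Nat.card (Fac N) := by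
  classical
  haveI := s.hyp.normal
  obtain ⟨T, hT⟩ := exists_factor s.hyp.ne_bot
  set φ := s.hyp.proj hT with hφ
  have hsurj : Function.Surjective φ := fun t => ⟨_, s.hyp.proj_self hT t⟩
  obtain ⟨a, b, ha, hb, hab⟩ := h.split_top φ.ker
  haveI := s.hyp.factor_simple hT
  have hb1 : b ≤ 1 :=
    (hb.top_equiv (QuotientGroup.quotientKerEquivOfSurjective φ hsurj)).le_one_of_simple
  have hpos : 1 ≤ Nat.card (Fac N) := by
    haveI : Nonempty (Fac N) := ⟨⟨T, hT⟩⟩
    exact Nat.card_pos
  by_cases hother : ∃ T', IsFactor N T' ∧ T' ≠ T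
  · obtain ⟨T', hT', hne⟩ := hother
    have h2 : 2 ≤ Nat.card (Fac N) := by
      by_contra hc
      have := Finite.card_le_one_iff_subsingleton.mp (by omega : Nat.card (Fac N) ≤ 1)
      exact hne (congrArg Subtype.val (Subsingleton.elim (⟨T', hT'⟩ : Fac N) ⟨T, hT⟩))
    have hcases : ∀ U, IsFactor N U → U = T ∨ U = T' := by
      intro U hU
      by_contra hcon
      push Not at hcon
      have hinj : Function.Injective (![⟨T, hT⟩, ⟨T', hT'⟩, ⟨U, hU⟩] : Fin 3 → Fac N) := by
        intro i j hij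
        fin_cases i <;> fin_cases j <;> simp_all [eq_comm]
      have := Nat.card_le_card_of_injective _ hinj
      simp at this
      omega
    set χ := (s.hyp.proj hT').comp φ.ker.subtype with hχ
    have hinj : Function.Injective χ := by
      rw [injective_iff_map_eq_one]
      intro x hx
      refine Subtype.ext (s.hyp.eq_one_of_proj fun U hU => ?_)
      rcases hcases U hU with rfl | rfl
      · exact x.2
      · exact hx
    have hsur' : Function.Surjective χ := fun t =>
      ⟨⟨⟨t, hT'.1.1 t.2⟩, s.hyp.proj_other hT hT' hne t.2⟩, s.hyp.proj_self hT' t⟩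
    haveI := s.hyp.factor_simple hT'
    have ha1 : a ≤ 1 :=
      (ha.top_equiv (MulEquiv.ofBijective χ ⟨hinj, hsur'⟩)).le_one_of_simple
    omega
  · push Not at hother
    have hbot : φ.ker = ⊥ := by
      rw [Subgroup.eq_bot_iff_forall]
      intro x hx
      exact s.hyp.eq_one_of_proj fun U hU => by
        obtain rfl := hother U hU
        exact hx
    have ha0 := ha.le_omega'
    rw [hbot, Subgroup.card_bot, omega'_one] at ha0
    omega

variable {X : Type v} [MulAction G X] [FaithfulSMul G X] [Finite X]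

/-- At most two factors. -/
theorem few_factors (hB : BndBelow.{u} (Nat.card X)) [IsPretransitive G X] (x₀ : X)
    (hX : 2 ≤ Nat.card X) (s : Sit N (stabilizer G x₀)) (ht : Nat.card (Fac N) ≤ 2) {l : ℕ}
    (h : Ser (⊤ : Subgroup G) l) : 3 * l + 4 ≤ 4 * Nat.card X := by
  haveI := s.hyp.normal
  obtain ⟨a, b, ha, hb, hab⟩ := h.split_top N
  have ha1 := s.ser_N ht ha
  set ψ := (QuotientGroup.mk' N).comp (stabilizer G x₀).subtype with hψ
  have hsurj : Function.Surjective ψ := fun q => QuotientGroup.induction_on q fun g => by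
    obtain ⟨m, hm, k, hk, rfl⟩ := s.exists_mul g
    refine ⟨⟨k, hk⟩, ?_⟩
    simp only [hψ, MonoidHom.comp_apply, Subgroup.coe_subtype, QuotientGroup.mk'_apply]
    rw [QuotientGroup.eq]
    simpa [mul_assoc] using s.hyp.normal.conj_mem m hm k⁻¹
  have hker : ψ.ker ≠ ⊥ := by
    intro e
    apply s.inf
    rw [Subgroup.eq_bot_iff_forall]
    rintro x ⟨hxN, hxH⟩
    have : (⟨x, hxH⟩ : stabilizer G x₀) ∈ ψ.ker :=
      (QuotientGroup.eq_one_iff x).mpr hxN
    rw [e, Subgroup.mem_bot] at this
    exact congrArg Subtype.val this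
  have hb' := (hb.top_equiv
    (QuotientGroup.quotientKerEquivOfSurjective ψ hsurj).symm).lift_top ψ.ker hker
  obtain ⟨y₀, hy₀⟩ : ∃ y₀ : X, y₀ ≠ x₀ := by
    haveI : Nontrivial X := Finite.one_lt_card_iff_nontrivial.mp (by omega)
    exact exists_ne x₀
  have hnot : y₀ ∉ orbit (stabilizer G x₀) x₀ := by
    rintro ⟨k, hk⟩
    exact hy₀ (hk.symm.trans (mem_stabilizer_iff.mp k.2))
  have hH := intransitive_bound (G := stabilizer G x₀) hB x₀ y₀ hnot hb'
  have ho : 2 ≤ orb (stabilizer G x₀) X := by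
    refine Finite.one_lt_card_iff_nontrivial.mpr
      ⟨⟨Quotient.mk _ y₀, Quotient.mk _ x₀, fun e => hnot ?_⟩⟩
    exact Quotient.exact e
  omega

/-- The product action case. -/
theorem product_case (hB : BndBelow.{u} (Nat.card X)) [IsPretransitive G X] (x₀ : X)
    [IsPretransitive N X] (s : Sit N (stabilizer G x₀)) (ht : 3 ≤ Nat.card (Fac N))
    {T : Subgroup G} (hT : IsFactor N T) (hP : s.P hT ≠ ⊤) {l : ℕ}
    (h : Ser (⊤ : Subgroup G) l) : 3 * l + 4 ≤ 4 * Nat.card X := by
  classical
  haveI := s.hyp.normal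
  haveI := s.hyp.factor_simple hT
  set P' := (s.P hT).map T.subtype with hP'
  set R := Subgroup.normalizer (P' : Set G) with hR
  -- the number of conjugates of `P'`
  have hR1 : ∀ k ∈ stabilizer G x₀, T.map (MulAut.conj k).toMonoidHom = T → k ∈ R := by
    intro k hk e
    rw [hR, Subgroup.mem_normalizer_iff_map_conj_eq]
    refine Subgroup.eq_of_le_of_card_ge ?_
      (Subgroup.card_map_of_injective (MulAut.conj k).injective).ge
    rintro _ ⟨_, ⟨t, ht, rfl⟩, rfl⟩
    exact ⟨_, s.conj_mem_P hT hT hk e ht, rfl⟩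
  have hR2 : others N T ≤ R := fun r hr => by
    have hc := Subgroup.mem_centralizer_iff.mp (others_le_centralizer hT hr)
    rw [hR, Subgroup.mem_normalizer_iff_map_conj_eq]
    refine Subgroup.eq_of_le_of_card_ge ?_
      (Subgroup.card_map_of_injective (MulAut.conj r).injective).ge
    rintro _ ⟨_, ⟨t, ht, rfl⟩, rfl⟩
    refine ⟨t, ht, ?_⟩
    show (t : G) = r * t * r⁻¹
    rw [← hc (t : G) t.2, mul_inv_cancel_right]
  have hR3 : P' ≤ R := Subgroup.le_normalizer
  choose k hk hkc using fun T' : Fac N => s.exists_conj hT T'.2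
  let Φ : Fac N × (T ⧸ s.P hT) → G ⧸ R := fun z =>
    Quotient.lift (fun u : T => ((k z.1 * u : G) : G ⧸ R)) (fun u w huw => by
      rw [QuotientGroup.eq]
      have h1 : ((u⁻¹ * w : T) : G) ∈ R :=
        hR3 (Subgroup.mem_map_of_mem _ (QuotientGroup.leftRel_apply.mp huw))
      simpa [mul_assoc] using h1) z.2
  have hΦ : Function.Surjective Φ := fun q => QuotientGroup.induction_on q fun g => by
    let T' : Fac N := ⟨T.map (MulAut.conj g).toMonoidHom, hT.map_conj g⟩
    obtain ⟨m, hm, j, hj, hmj⟩ := s.exists_mul ((k T')⁻¹ * g)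
    have hfix : T.map (MulAut.conj ((k T')⁻¹ * g)).toMonoidHom = T := by
      rw [← map_conj_conj]
      show (T' : Subgroup G).map _ = T
      rw [← hkc T', map_conj_conj, inv_mul_cancel, map_conj_one]
    rw [← hmj, ← map_conj_conj, (hT.map_conj j).1.map_conj_self hm] at hfix
    refine ⟨(T', QuotientGroup.mk (s.hyp.proj hT ⟨m, hm⟩)), ?_⟩
    show ((k T' * (s.hyp.proj hT ⟨m, hm⟩ : G) : G) : G ⧸ R) = (g : G ⧸ R)
    rw [QuotientGroup.eq]
    have h1 := R.mul_mem (hR2 (s.hyp.proj_spec hT ⟨m, hm⟩)) (hR1 j hj hfix)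
    have e : (k T' * (s.hyp.proj hT ⟨m, hm⟩ : G))⁻¹ * g =
        (s.hyp.proj hT ⟨m, hm⟩ : G)⁻¹ * m * j := by
      rw [mul_inv_rev, mul_assoc, ← hmj, mul_assoc]
    rw [e]
    exact h1
  have hcard : Nat.card (G ⧸ R) ≤ Nat.card (Fac N) * (s.P hT).index := by
    rw [Subgroup.index_eq_card, ← Nat.card_prod]
    exact Nat.card_le_card_of_surjective Φ hΦ
  -- the degree
  set A := (stabilizer G x₀).subgroupOf N with hA
  have hAeq : stabilizer N x₀ = A := by
    ext
    simp [hA, Subgroup.mem_subgroupOf, mem_stabilizer_iff, Subgroup.smul_def]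
  have hidx : A.index = Nat.card X := by
    rw [← hAeq, index_stabilizer_of_transitive]
  have hAle : Nat.card A ≤ Nat.card (s.P hT) ^ Nat.card (Fac N) := by
    have := Fintype.ofFinite (Fac N)
    let f : A → (T' : Fac N) → s.P T'.2 := fun a T' =>
      ⟨s.hyp.proj T'.2 (a : N), s.mem_P T'.2 (a : N).2 a.2⟩
    have hf : Function.Injective f := fun a b hab => Subtype.ext (s.hyp.prodHom_bijective.1
      (funext fun T' => congrArg Subtype.val (congrFun hab T')))
    refine (Nat.card_le_card_of_injective f hf).trans ?_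
    rw [Nat.card_pi, Finset.prod_congr rfl (fun (T' : Fac N) _ => (s.card_P hT T'.2).symm),
      Finset.prod_const, Finset.card_univ, Nat.card_eq_fintype_card (α := Fac N)]
  have hlow : (s.P hT).index ^ Nat.card (Fac N) ≤ Nat.card X := by
    have h1 : Nat.card A * Nat.card X = Nat.card N := hidx ▸ Subgroup.card_mul_index A
    rw [s.card_N hT, ← Subgroup.card_mul_index (s.P hT), mul_pow] at h1
    have h2 := Nat.mul_le_mul_right (Nat.card X) hAle
    rw [h1] at h2
    exact Nat.le_of_mul_le_mul_left h2 (pow_pos Nat.card_pos _)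
  have hi : 2 ≤ (s.P hT).index := Subgroup.one_lt_index_of_ne_top hP
  have harith : Nat.card (Fac N) * (s.P hT).index < (s.P hT).index ^ Nat.card (Fac N) := by
    obtain ⟨c, hc⟩ : ∃ c, Nat.card (Fac N) = c + 3 := ⟨_, (Nat.sub_add_cancel ht).symm⟩
    rw [hc, pow_succ]
    refine Nat.mul_lt_mul_of_pos_right ?_ (by omega)
    have key : ∀ c : ℕ, c + 3 < 2 ^ (c + 2) := by
      intro c
      induction c with
      | zero => norm_num
      | succ c ih => rw [pow_succ 2 (c + 2)]; omega
    exact (key c).trans_le (Nat.pow_le_pow_left hi _)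
  -- faithfulness
  let φ : G →* Equiv.Perm (G ⧸ R) := toPermHom G (G ⧸ R)
  have hφ : φ.ker = ⊥ := by
    by_contra hne
    have hker : φ.ker = Subgroup.normalCore R := (Subgroup.normalCore_eq_ker R).symm
    have hmin := s.hyp.min (φ.ker ⊓ N) inferInstance inf_le_right
    rcases hmin with e | e
    · apply hne
      rw [eq_bot_iff, ← s.hyp.cent]
      intro z hz
      rw [Subgroup.mem_centralizer_iff]
      intro y hy
      exact (Subgroup.commute_of_normal_of_disjoint φ.ker N inferInstance inferInstance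
        (disjoint_iff.mpr e) z y hz hy).eq.symm
    · have hle : N ≤ R := (inf_eq_right.mp e).trans (hker ▸ Subgroup.normalCore_le R)
      have hnorm : (s.P hT).Normal := ⟨fun t ht u => by
        have h1 : (u : G) ∈ R := hle (hT.1.1 u.2)
        rw [hR, Subgroup.mem_normalizer_iff] at h1
        obtain ⟨w, hw, hwe⟩ := (h1 (t : G)).mp ⟨t, ht, rfl⟩
        have : w = u * t * u⁻¹ := Subtype.ext hwe
        rwa [← this]⟩
      rcases hnorm.eq_bot_or_eq_top with e' | e'
      · exact s.P_ne_bot hT e'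
      · exact hP e'
  haveI : Nonempty (G ⧸ R) := ⟨((1 : G) : G ⧸ R)⟩
  have hlt : Nat.card (G ⧸ R) < Nat.card X := hcard.trans_lt (harith.trans_le hlow)
  have := (hB _ hlt).apply_hom φ ((MonoidHom.ker_eq_bot_iff φ).mp hφ) rfl h
  omega

end Cfsg.Agent.CompLen
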