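import Cfsg.Agent.Lib.CompLen.Cases

/-!
# Composition length: the diagonal case
-/

set_option autoImplicit false

namespace Cfsg.Agent.CompLen

open MulAction

universe u v

variable {G : Type u} [Group G] [Finite G] {N H : Subgroup G}

/-- Projection restricted to `N ⊓ H`. -/
noncomputable def Sit.ψ (s : Sit N H) (T : Fac N) : H.subgroupOf N →* (T : Subgroup G) :=
  (s.hyp.proj T.2).comp (H.subgroupOf N).subtype

lemma Sit.ψ_surj (s : Sit N H) (hP : ∀ T (hT : IsFactor N T), s.P hT = ⊤) (T : Fac N) :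
    Function.Surjective (s.ψ T) := fun t => by
  obtain ⟨x, hx, rfl⟩ : t ∈ s.P T.2 := by rw [hP]; exact Subgroup.mem_top _
  exact ⟨⟨x, hx⟩, rfl⟩

/-- Each factor shares its kernel with another one. -/
lemma Sit.partner (s : Sit N H) (hP : ∀ T (hT : IsFactor N T), s.P hT = ⊤) (T : Fac N) :
    ∃ T' : Fac N, T' ≠ T ∧ (s.ψ T').ker = (s.ψ T).ker := by
  classical
  haveI := s.hyp.normal
  haveI := s.hyp.factor_simple T.2
  by_contra hcon
  push Not at hcon
  have hcardker : ∀ U : Fac N,
      Nat.card (s.ψ U).ker * Nat.card (T : Subgroup G) = Nat.card (H.subgroupOf N) := fun U => by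
    rw [← Subgroup.card_mul_index (s.ψ U).ker, Subgroup.index_ker,
      MonoidHom.range_eq_top_of_surjective _ (s.ψ_surj hP U), Subgroup.card_top,
      s.card_T T.2 U.2]
  have key : ∀ S : Finset (Fac N), T ∉ S →
      (⨅ U ∈ S, (s.ψ U).ker).map (s.ψ T) = ⊤ := by
    intro S
    induction S using Finset.induction with
    | empty =>
      intro _
      simp [Subgroup.map_top_of_surjective _ (s.ψ_surj hP T)]
    | @insert V S hV ih =>
      intro hT
      rw [Finset.mem_insert, not_or] at hT
      have ih := ih hT.2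
      rw [Finset.iInf_insert]
      set J := (⨅ U ∈ S, (s.ψ U).ker) with hJ
      have hJn : J.Normal := by
        rw [hJ]
        exact Subgroup.normal_iInf_normal fun U =>
          Subgroup.normal_iInf_normal fun _ => inferInstance
      have hI : (((s.ψ V).ker ⊓ J).map (s.ψ T)).Normal :=
        Subgroup.Normal.map inferInstance _ (s.ψ_surj hP T)
      refine hI.eq_bot_or_eq_top.resolve_left fun hbot => ?_
      obtain ⟨y, hy, hyT⟩ : ∃ y ∈ (s.ψ V).ker, y ∉ (s.ψ T).ker := by
        by_contra hle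
        push Not at hle
        exact hcon V (Ne.symm hT.1) (Subgroup.eq_of_le_of_card_ge hle
          (Nat.le_of_mul_le_mul_right ((hcardker T).le.trans (hcardker V).ge) Nat.card_pos))
      apply hyT
      rw [MonoidHom.mem_ker]
      have hc : s.ψ T y ∈ Subgroup.center (T : Subgroup G) := by
        rw [Subgroup.mem_center_iff]
        intro t
        obtain ⟨x, hx, rfl⟩ : t ∈ J.map (s.ψ T) := by rw [ih]; exact Subgroup.mem_top _
        have hm : x * y * x⁻¹ * y⁻¹ ∈ (s.ψ V).ker ⊓ J :=
          ⟨(s.ψ V).ker.mul_mem ((inferInstance : (s.ψ V).ker.Normal).conj_mem y hy x)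
              (inv_mem hy),
            by
              have := J.mul_mem hx (hJn.conj_mem x⁻¹ (inv_mem hx) y)
              simpa [mul_assoc] using this⟩
        have h1 := Subgroup.mem_map_of_mem (s.ψ T) hm
        rw [hbot, Subgroup.mem_bot, map_mul, map_mul, map_mul, map_inv, map_inv,
          mul_inv_eq_one, mul_inv_eq_iff_eq_mul] at h1
        exact h1
      rcases (inferInstance : (Subgroup.center (T : Subgroup G)).Normal).eq_bot_or_eq_top with
        e | e
      · rwa [e, Subgroup.mem_bot] at hc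
      · exfalso
        refine s.hyp.not_comm T.2 fun a ha b hb => ?_
        have h2 : (⟨b, hb⟩ : (T : Subgroup G)) ∈ Subgroup.center (T : Subgroup G) := by
          rw [e]; exact Subgroup.mem_top _
        exact congrArg Subtype.val (Subgroup.mem_center_iff.mp h2 ⟨a, ha⟩)
  apply s.not_le
  have := Fintype.ofFinite (Fac N)
  have hTH : (T : Subgroup G) ≤ H := by
    intro t ht
    obtain ⟨x, hx, hxt⟩ : (⟨t, ht⟩ : (T : Subgroup G)) ∈
        (⨅ U ∈ Finset.univ.erase T, (s.ψ U).ker).map (s.ψ T) := by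
      rw [key _ (Finset.notMem_erase _ _)]; exact Subgroup.mem_top _
    simp only [SetLike.mem_coe, Subgroup.mem_iInf, Finset.mem_erase, Finset.mem_univ,
      and_true] at hx
    have e : (x : N) = ⟨t, T.2.1.1 ht⟩ := s.hyp.prodHom_bijective.1 (funext fun U => by
      show s.hyp.proj U.2 (x : N) = s.hyp.proj U.2 ⟨t, T.2.1.1 ht⟩
      by_cases hU : U = T
      · subst hU
        exact hxt.trans (s.hyp.proj_self U.2 ⟨t, ht⟩).symm
      · rw [s.hyp.proj_other U.2 T.2 (fun e => hU (Subtype.ext e.symm)) ht]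
        exact hx U hU)
    have := x.2
    rw [Subgroup.mem_subgroupOf, e] at this
    exact this
  rw [← s.hyp.orbit_sup T.2]
  refine sSup_le ?_
  rintro _ ⟨g, rfl⟩
  obtain ⟨k, hk, hkc⟩ := s.exists_conj T.2 (T.2.map_conj g)
  show (T : Subgroup G).map _ ≤ H
  rw [← hkc]
  rintro _ ⟨t, ht, rfl⟩
  exact H.mul_mem (H.mul_mem hk (hTH ht)) (H.inv_mem hk)

/-- The intersection with the stabilizer is small. -/
lemma Sit.card_le_diag (s : Sit N H) (hP : ∀ T (hT : IsFactor N T), s.P hT = ⊤) (T : Fac N) :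
    ∃ c, 2 * c ≤ Nat.card (Fac N) ∧
      Nat.card (H.subgroupOf N) ≤ Nat.card (T : Subgroup G) ^ c := by
  classical
  have := Fintype.ofFinite (Fac N)
  let K : Finset (Subgroup (H.subgroupOf N)) := Finset.univ.image fun U : Fac N => (s.ψ U).ker
  refine ⟨K.card, ?_, ?_⟩
  · rw [Nat.card_eq_fintype_card (α := Fac N), ← Finset.card_univ,
      Finset.card_eq_sum_card_image (fun U : Fac N => (s.ψ U).ker) Finset.univ, mul_comm]
    refine le_trans (by simp [K]) (Finset.card_nsmul_le_sum K _ 2 ?_)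
    intro L hL
    obtain ⟨U, -, rfl⟩ := Finset.mem_image.mp hL
    obtain ⟨U', hne, he⟩ := s.partner hP U
    exact Finset.one_lt_card.mpr ⟨U', Finset.mem_filter.mpr ⟨Finset.mem_univ _, he⟩, U,
      Finset.mem_filter.mpr ⟨Finset.mem_univ _, rfl⟩, hne⟩
  · choose r hr using fun L : K => Finset.mem_image.mp L.2
    let f : H.subgroupOf N →* ((L : K) → ((r L : Fac N) : Subgroup G)) :=
      MonoidHom.pi fun L => s.ψ (r L)
    have hf : Function.Injective f := by
      rw [injective_iff_map_eq_one]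
      intro x hx
      refine Subtype.ext (s.hyp.eq_one_of_proj fun U hU => ?_)
      let L : K := ⟨(s.ψ ⟨U, hU⟩).ker, Finset.mem_image_of_mem _ (Finset.mem_univ _)⟩
      have h1 : x ∈ (s.ψ (r L)).ker := congrFun hx L
      rw [(hr L).2] at h1
      exact h1
    refine (Nat.card_le_card_of_injective f hf).trans ?_
    rw [Nat.card_pi, Finset.prod_congr rfl (fun L _ => s.card_T T.2 (r L).2), Finset.prod_const,
      Finset.card_univ, Fintype.card_coe]

/-- The elementary inequality behind the diagonal case. -/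
lemma arith_diag {q t c : ℕ} (hq : 3 ≤ q) (ht : 3 ≤ t) (hc : 2 * c ≤ t) :
    t * (q - 1) < q ^ (t - c) := by
  obtain ⟨m, rfl⟩ : ∃ m, q = m + 1 := ⟨q - 1, by omega⟩
  rw [Nat.add_sub_cancel]
  have key : ∀ k, 2 ≤ k → 2 * k * m < (m + 1) ^ k := by
    intro k hk
    induction k, hk using Nat.le_induction with
    | base => nlinarith
    | succ k hk ih =>
      rw [pow_succ]
      have h2 : 1 ≤ k * m := Nat.one_le_iff_ne_zero.mpr (Nat.mul_ne_zero (by omega) (by omega))
      calc 2 * (k + 1) * m ≤ 2 * k * m * (m + 1) := by nlinarith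
        _ < (m + 1) ^ k * (m + 1) := Nat.mul_lt_mul_of_pos_right ih (by omega)
  refine lt_of_le_of_lt ?_ (key (t - c) (by omega))
  exact Nat.mul_le_mul_right m (by omega)

variable {X : Type v} [MulAction G X] [FaithfulSMul G X] [Finite X]

/-- The diagonal case. -/
theorem diagonal_case (hB : BndBelow.{u} (Nat.card X)) (x₀ : X) [IsPretransitive N X]
    (s : Sit N (stabilizer G x₀)) (ht : 3 ≤ Nat.card (Fac N))
    (hP : ∀ T (hT : IsFactor N T), s.P hT = ⊤) {l : ℕ}
    (h : Ser (⊤ : Subgroup G) l) : 3 * l + 4 ≤ 4 * Nat.card X := by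
  classical
  haveI := s.hyp.normal
  obtain ⟨T₀, hT₀⟩ := exists_factor s.hyp.ne_bot
  let Y := {x : G // x ≠ 1 ∧ ∃ T, IsFactor N T ∧ x ∈ T}
  letI : MulAction G Y :=
    { smul := fun g x => ⟨g * x * g⁻¹, by
        obtain ⟨hx1, T, hT, hxT⟩ := x.2
        exact ⟨fun e => hx1 (conj_eq_one_iff.mp e), _, hT.map_conj g, conj_mem_map g hxT⟩⟩
      one_smul := fun x => Subtype.ext (by
        show (1 : G) * x * 1⁻¹ = x
        simp)
      mul_smul := fun a b x => Subtype.ext (by
        show a * b * x * (a * b)⁻¹ = a * (b * x * b⁻¹) * a⁻¹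
        group) }
  haveI : FaithfulSMul G Y := ⟨fun {a b} hab => by
    have hmem : b⁻¹ * a ∈ Subgroup.centralizer (N : Set G) := by
      rw [← Subgroup.centralizer_closure]
      have hle : N ≤ Subgroup.centralizer ({b⁻¹ * a} : Set G) := by
        rw [← s.hyp.orbit_sup hT₀]
        refine sSup_le ?_
        rintro _ ⟨u, rfl⟩ y hy
        rw [Subgroup.mem_centralizer_singleton_iff]
        by_cases hy1 : y = 1
        · subst hy1; simp
        · have := congrArg Subtype.val (hab ⟨y, hy1, _, hT₀.map_conj u, hy⟩)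
          change a * y * a⁻¹ = b * y * b⁻¹ at this
          calc y * (b⁻¹ * a) = b⁻¹ * (b * y * b⁻¹) * a := by group
            _ = b⁻¹ * a * y := by rw [← this]; group
      rw [Subgroup.centralizer_closure, Subgroup.mem_centralizer_iff]
      exact fun y hy => Subgroup.mem_centralizer_singleton_iff.mp (hle hy)
    rw [s.hyp.cent, Subgroup.mem_bot, inv_mul_eq_one] at hmem
    exact hmem.symm⟩
  obtain ⟨c, hc, hA⟩ := s.card_le_diag hP ⟨T₀, hT₀⟩
  set A := (stabilizer G x₀).subgroupOf N with hAdef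
  have hidx : A.index = Nat.card X := by
    rw [← index_stabilizer_of_transitive N x₀]
    congr 1
  have hq := three_le_card_factor s hT₀
  have hlow : Nat.card T₀ ^ (Nat.card (Fac N) - c) ≤ Nat.card X := by
    have h1 : Nat.card A * Nat.card X = Nat.card N := hidx ▸ Subgroup.card_mul_index A
    rw [s.card_N hT₀] at h1
    have h2 := Nat.mul_le_mul_right (Nat.card X) hA
    rw [h1] at h2
    rw [show Nat.card (Fac N) = (Nat.card (Fac N) - c) + c by omega, pow_add,
      mul_comm] at h2
    exact Nat.le_of_mul_le_mul_left h2 (pow_pos Nat.card_pos _)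
  have hY : Nat.card Y ≤ Nat.card (Fac N) * (Nat.card T₀ - 1) := by
    have := Fintype.ofFinite (Fac N)
    let f : Y → Σ T : Fac N, {t : (T : Subgroup G) // t ≠ 1} := fun x =>
      ⟨⟨x.2.2.choose, x.2.2.choose_spec.1⟩,
        ⟨⟨x, x.2.2.choose_spec.2⟩, fun e => x.2.1 (congrArg Subtype.val e)⟩⟩
    have hf : Function.Injective f := fun x y hxy => Subtype.ext
      (congrArg (fun z : Σ T : Fac N, {t : (T : Subgroup G) // t ≠ 1} =>
        ((z.2 : (z.1 : Subgroup G)) : G)) hxy)
    refine (Nat.card_le_card_of_injective f hf).trans ?_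
    rw [Nat.card_sigma]
    refine (Finset.sum_le_card_nsmul _ _ (Nat.card T₀ - 1) fun T _ => ?_).trans
      (by simp [Nat.card_eq_fintype_card (α := Fac N)])
    haveI : Fintype (T : Subgroup G) := Fintype.ofFinite _
    rw [← s.card_T hT₀ T.2, Nat.card_eq_fintype_card, Nat.card_eq_fintype_card]
    simp [Fintype.card_subtype_compl]
  have hlt : Nat.card Y < Nat.card X :=
    hY.trans_lt ((arith_diag hq ht hc).trans_le hlow)
  have hbound := (hB _ hlt).apply (X := Y) rfl h
  have : 0 < orb G Y := by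
    obtain ⟨t, ht, ht1⟩ : ∃ t ∈ T₀, t ≠ 1 := by
      simpa [Subgroup.eq_bot_iff_forall] using hT₀.2.1
    haveI : Nonempty (Quotient (orbitRel G Y)) :=
      ⟨Quotient.mk _ ⟨t, ht1, T₀, hT₀, ht⟩⟩
    exact Nat.card_pos
  omega

end Cfsg.Agent.CompLen
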