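import Mathlib

/-!
# The simple factors of a minimal normal subgroup with trivial centralizer
-/

set_option autoImplicit false

namespace Cfsg.Agent.CompLen

variable {G : Type*} [Group G]

/-- `K ≤ N` is invariant under conjugation by `N`. -/
def InvIn (N K : Subgroup G) : Prop := K ≤ N ∧ ∀ n ∈ N, ∀ k ∈ K, n * k * n⁻¹ ∈ K

/-- Minimal nontrivial invariant subgroups. -/
def IsFactor (N T : Subgroup G) : Prop :=
  InvIn N T ∧ T ≠ ⊥ ∧ ∀ K, InvIn N K → K ≤ T → K = ⊥ ∨ K = T

variable {N : Subgroup G}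

lemma InvIn.inf {A B : Subgroup G} (hA : InvIn N A) (hB : InvIn N B) : InvIn N (A ⊓ B) :=
  ⟨inf_le_left.trans hA.1, fun n hn k hk => ⟨hA.2 n hn k hk.1, hB.2 n hn k hk.2⟩⟩

lemma InvIn.map_conj [N.Normal] {K : Subgroup G} (hK : InvIn N K) (g : G) :
    InvIn N (K.map (MulAut.conj g).toMonoidHom) := by
  refine ⟨?_, ?_⟩
  · rintro _ ⟨k, hk, rfl⟩
    simpa using (inferInstance : N.Normal).conj_mem k (hK.1 hk) g
  · rintro n hn _ ⟨k, hk, rfl⟩
    refine ⟨(g⁻¹ * n * g) * k * (g⁻¹ * n * g)⁻¹, hK.2 _ ?_ k hk, ?_⟩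
    · simpa using (inferInstance : N.Normal).conj_mem n hn g⁻¹
    · simp [mul_assoc]

lemma map_conj_conj (K : Subgroup G) (g h : G) :
    (K.map (MulAut.conj h).toMonoidHom).map (MulAut.conj g).toMonoidHom =
      K.map (MulAut.conj (g * h)).toMonoidHom := by
  rw [Subgroup.map_map]
  congr 1
  ext x
  simp [mul_assoc]

lemma map_conj_one (K : Subgroup G) : K.map (MulAut.conj (1 : G)).toMonoidHom = K := by
  ext x
  simp

lemma IsFactor.map_conj [N.Normal] {T : Subgroup G} (hT : IsFactor N T) (g : G) :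
    IsFactor N (T.map (MulAut.conj g).toMonoidHom) := by
  refine ⟨hT.1.map_conj g, ?_, fun K hK hle => ?_⟩
  · intro e
    exact hT.2.1 ((Subgroup.map_eq_bot_iff_of_injective _ (MulAut.conj g).injective).mp e)
  · have h1 := Subgroup.map_mono (f := (MulAut.conj g⁻¹).toMonoidHom) hle
    rw [map_conj_conj, inv_mul_cancel, map_conj_one] at h1
    have key : K = (K.map (MulAut.conj g⁻¹).toMonoidHom).map (MulAut.conj g).toMonoidHom := by
      rw [map_conj_conj, mul_inv_cancel, map_conj_one]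
    rcases hT.2.2 _ (hK.map_conj g⁻¹) h1 with e | e
    · exact .inl (by rw [key, e, Subgroup.map_bot])
    · exact .inr (by rw [key, e])

lemma IsFactor.commute {A B : Subgroup G} (hA : IsFactor N A) (hB : IsFactor N B) (hne : A ≠ B)
    {a b : G} (ha : a ∈ A) (hb : b ∈ B) : Commute a b := by
  have hd : A ⊓ B = ⊥ := by
    rcases hA.2.2 _ (hA.1.inf hB.1) inf_le_left with e | e
    · exact e
    · rcases hB.2.2 _ hA.1 (e ▸ inf_le_right) with e' | e'
      · exact absurd e' hA.2.1
      · exact absurd e' hne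
  have h1 : a * b * a⁻¹ * b⁻¹ ∈ A ⊓ B := by
    refine ⟨?_, B.mul_mem (hB.1.2 a (hA.1.1 ha) b hb) (B.inv_mem hb)⟩
    have := mul_mem ha (hA.1.2 b (hB.1.1 hb) a⁻¹ (inv_mem ha))
    simpa [mul_assoc] using this
  rw [hd, Subgroup.mem_bot] at h1
  exact mul_inv_eq_iff_eq_mul.mp (mul_inv_eq_one.mp h1)

/-- The join of the factors different from `T`. -/
def others (N T : Subgroup G) : Subgroup G := sSup {K | IsFactor N K ∧ K ≠ T}

lemma others_le_centralizer {T : Subgroup G} (hT : IsFactor N T) :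
    others N T ≤ Subgroup.centralizer (T : Set G) := by
  refine sSup_le fun K hK k hk => ?_
  rw [Subgroup.mem_centralizer_iff]
  exact fun t ht => (hK.1.commute hT hK.2 hk ht).eq.symm

lemma others_le (T : Subgroup G) : others N T ≤ N := sSup_le fun _ hK => hK.1.1.1

variable [Finite G]

lemma exists_factor [N.Normal] (hN : N ≠ ⊥) : ∃ T, IsFactor N T := by
  obtain ⟨T, ⟨hT, hne⟩, hmin⟩ := Set.Finite.exists_minimalFor id
    {K : Subgroup G | InvIn N K ∧ K ≠ ⊥} (Set.toFinite _)
    ⟨N, ⟨le_rfl, fun n hn k hk => mul_mem (mul_mem hn hk) (inv_mem hn)⟩, hN⟩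
  refine ⟨T, hT, hne, fun K hK hle => ?_⟩
  by_cases h : K = ⊥
  · exact .inl h
  · exact .inr (le_antisymm hle (hmin (j := K) ⟨hK, h⟩ hle))

/-- The standing hypotheses. -/
structure Hyp (N : Subgroup G) : Prop where
  normal : N.Normal
  ne_bot : N ≠ ⊥
  min : ∀ M : Subgroup G, M.Normal → M ≤ N → M = ⊥ ∨ M = N
  cent : Subgroup.centralizer (N : Set G) = ⊥

lemma Hyp.orbit_sup (h : Hyp N) {T : Subgroup G} (hT : IsFactor N T) :
    sSup (Set.range fun g : G => T.map (MulAut.conj g).toMonoidHom) = N := by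
  have := h.normal
  set S := sSup (Set.range fun g : G => T.map (MulAut.conj g).toMonoidHom) with hS
  have hSn : S.Normal := by
    refine ⟨fun x hx g => ?_⟩
    have : S.map (MulAut.conj g).toMonoidHom ≤ S := by
      rw [Subgroup.map_le_iff_le_comap]
      refine sSup_le ?_
      rintro _ ⟨u, rfl⟩
      rw [← Subgroup.map_le_iff_le_comap, map_conj_conj]
      exact le_sSup ⟨g * u, rfl⟩
    simpa using this (Subgroup.mem_map_of_mem _ hx)
  have hle : S ≤ N := sSup_le (by rintro _ ⟨u, rfl⟩; exact (hT.map_conj u).1.1)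
  refine (h.min S hSn hle).resolve_left fun e => hT.2.1 (eq_bot_iff.mpr ?_)
  rw [← e, hS]
  exact le_sSup ⟨1, map_conj_one T⟩

lemma Hyp.exists_conj (h : Hyp N) {T T' : Subgroup G} (hT : IsFactor N T) (hT' : IsFactor N T') :
    ∃ g : G, T.map (MulAut.conj g).toMonoidHom = T' := by
  have := h.normal
  by_contra hcon
  push Not at hcon
  apply hT'.2.1
  rw [eq_bot_iff, ← h.cent]
  intro x hx
  have hle : N ≤ Subgroup.centralizer ({x} : Set G) := by
    rw [← h.orbit_sup hT]
    refine sSup_le ?_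
    rintro _ ⟨u, rfl⟩ y hy
    rw [Subgroup.mem_centralizer_singleton_iff]
    exact ((hT.map_conj u).commute hT' (hcon u) hy hx).eq
  rw [Subgroup.mem_centralizer_iff]
  exact fun y hy => (Subgroup.mem_centralizer_singleton_iff.mp (hle hy))

lemma Hyp.inf_others (h : Hyp N) {T : Subgroup G} (hT : IsFactor N T) : T ⊓ others N T = ⊥ := by
  have := h.normal
  rw [eq_bot_iff, ← h.cent]
  rintro x ⟨hxT, hxR⟩
  have hle : N ≤ Subgroup.centralizer ({x} : Set G) := by
    rw [← h.orbit_sup hT]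
    refine sSup_le ?_
    rintro _ ⟨u, rfl⟩ y hy
    rw [Subgroup.mem_centralizer_singleton_iff]
    by_cases e : T.map (MulAut.conj u).toMonoidHom = T
    · exact (Subgroup.mem_centralizer_iff.mp (others_le_centralizer hT hxR) y
        (e ▸ hy : y ∈ T))
    · exact ((hT.map_conj u).commute hT e hy hxT).eq
  rw [Subgroup.mem_centralizer_iff]
  exact fun y hy => (Subgroup.mem_centralizer_singleton_iff.mp (hle hy))

lemma Hyp.exists_mul (h : Hyp N) {T : Subgroup G} (hT : IsFactor N T) (x : N) :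
    ∃ t : T, (t : G)⁻¹ * x ∈ others N T := by
  have := h.normal
  let S : Subgroup G :=
    { carrier := {y | ∃ t ∈ T, t⁻¹ * y ∈ others N T}
      mul_mem' := by
        rintro a b ⟨t, ht, hta⟩ ⟨u, hu, hub⟩
        refine ⟨t * u, T.mul_mem ht hu, ?_⟩
        have hc := Subgroup.mem_centralizer_iff.mp (others_le_centralizer hT hta) u hu
        have e : (t * u)⁻¹ * (a * b) = t⁻¹ * a * (u⁻¹ * b) :=
          calc (t * u)⁻¹ * (a * b) = u⁻¹ * (t⁻¹ * a) * b := by group
            _ = u⁻¹ * (u * (t⁻¹ * a) * u⁻¹) * b := by rw [hc]; group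
            _ = t⁻¹ * a * (u⁻¹ * b) := by group
        rw [e]
        exact (others N T).mul_mem hta hub
      one_mem' := ⟨1, T.one_mem, by simp⟩
      inv_mem' := by
        rintro a ⟨t, ht, hta⟩
        refine ⟨t⁻¹, T.inv_mem ht, ?_⟩
        have hc := Subgroup.mem_centralizer_iff.mp
          (others_le_centralizer hT ((others N T).inv_mem hta)) t ht
        have e : t⁻¹⁻¹ * a⁻¹ = (t⁻¹ * a)⁻¹ :=
          calc t⁻¹⁻¹ * a⁻¹ = t * (t⁻¹ * a)⁻¹ * t⁻¹ := by group
            _ = (t⁻¹ * a)⁻¹ := by rw [hc]; group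
        rw [e]
        exact (others N T).inv_mem hta }
  have hle : N ≤ S := by
    rw [← h.orbit_sup hT]
    refine sSup_le ?_
    rintro _ ⟨u, rfl⟩ y hy
    by_cases e : T.map (MulAut.conj u).toMonoidHom = T
    · exact ⟨y, e ▸ hy, by simp⟩
    · refine ⟨1, T.one_mem, ?_⟩
      simp only [inv_one, one_mul, others]
      exact le_sSup (a := T.map (MulAut.conj u).toMonoidHom)
        (show _ ∈ {K | IsFactor N K ∧ K ≠ T} from ⟨hT.map_conj u, e⟩) hy
  obtain ⟨t, ht, htx⟩ := hle x.2
  exact ⟨⟨t, ht⟩, htx⟩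

lemma Hyp.unique (h : Hyp N) {T : Subgroup G} (hT : IsFactor N T) {y : G} {t t' : T}
    (ht : (t : G)⁻¹ * y ∈ others N T) (ht' : (t' : G)⁻¹ * y ∈ others N T) : t = t' := by
  have h1 : (t : G)⁻¹ * t' ∈ T ⊓ others N T := by
    refine ⟨T.mul_mem (T.inv_mem t.2) t'.2, ?_⟩
    have := (others N T).mul_mem ht ((others N T).inv_mem ht')
    have e : (t : G)⁻¹ * y * ((t' : G)⁻¹ * y)⁻¹ = (t : G)⁻¹ * t' := by group
    rwa [e] at this
  rw [h.inf_others hT, Subgroup.mem_bot] at h1
  exact Subtype.ext (inv_mul_eq_one.mp h1)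

/-- The projection of `N` onto a factor. -/
noncomputable def Hyp.proj (h : Hyp N) {T : Subgroup G} (hT : IsFactor N T) : N →* T where
  toFun x := (h.exists_mul hT x).choose
  map_one' := h.unique hT (h.exists_mul hT 1).choose_spec (by simp)
  map_mul' x y := by
    refine h.unique hT (h.exists_mul hT (x * y)).choose_spec ?_
    have hx := (h.exists_mul hT x).choose_spec
    have hy := (h.exists_mul hT y).choose_spec
    set t := (h.exists_mul hT x).choose
    set u := (h.exists_mul hT y).choose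
    have hc := Subgroup.mem_centralizer_iff.mp (others_le_centralizer hT hx) u u.2
    have e : ((t * u : T) : G)⁻¹ * ((x * y : N) : G) = (t : G)⁻¹ * x * ((u : G)⁻¹ * y) := by
      rw [Subgroup.coe_mul, Subgroup.coe_mul]
      calc ((t : G) * u)⁻¹ * ((x : G) * y) = (u : G)⁻¹ * ((t : G)⁻¹ * x) * y := by group
        _ = (u : G)⁻¹ * ((u : G) * ((t : G)⁻¹ * x) * (u : G)⁻¹) * y := by rw [hc]; group
        _ = _ := by group
    rw [e]
    exact (others N T).mul_mem hx hy

lemma Hyp.proj_spec (h : Hyp N) {T : Subgroup G} (hT : IsFactor N T) (x : N) :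
    (h.proj hT x : G)⁻¹ * x ∈ others N T :=
  (h.exists_mul hT x).choose_spec

lemma Hyp.proj_self (h : Hyp N) {T : Subgroup G} (hT : IsFactor N T) (t : T) :
    h.proj hT ⟨t, hT.1.1 t.2⟩ = t :=
  h.unique hT (h.proj_spec hT _) (by simp)

lemma Hyp.proj_other (h : Hyp N) {T T' : Subgroup G} (hT : IsFactor N T) (hT' : IsFactor N T')
    (hne : T' ≠ T) {x : G} (hx : x ∈ T') : h.proj hT ⟨x, hT'.1.1 hx⟩ = 1 :=
  h.unique hT (h.proj_spec hT _) (by
    simp only [Subgroup.coe_one, inv_one, one_mul, others]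
    exact le_sSup (a := T') (show _ ∈ {K | IsFactor N K ∧ K ≠ T} from ⟨hT', hne⟩) hx)

lemma Hyp.eq_one_of_proj (h : Hyp N) {x : N}
    (hx : ∀ T (hT : IsFactor N T), h.proj hT x = 1) : x = 1 := by
  have := h.normal
  obtain ⟨T, hT⟩ := exists_factor h.ne_bot
  have hle : N ≤ Subgroup.centralizer ({(x : G)} : Set G) := by
    refine (h.orbit_sup hT).ge.trans (sSup_le ?_)
    rintro _ ⟨u, rfl⟩ y hy
    rw [Subgroup.mem_centralizer_singleton_iff]
    have h1 := h.proj_spec (hT.map_conj u) x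
    rw [hx _ (hT.map_conj u)] at h1
    simp only [Subgroup.coe_one, inv_one, one_mul] at h1
    exact Subgroup.mem_centralizer_iff.mp (others_le_centralizer (hT.map_conj u) h1) y hy
  have h1 : (x : G) ∈ Subgroup.centralizer (N : Set G) := by
    rw [Subgroup.mem_centralizer_iff]
    exact fun y hy => Subgroup.mem_centralizer_singleton_iff.mp (hle hy)
  rw [h.cent, Subgroup.mem_bot] at h1
  exact Subtype.ext h1

/-- `N` as a product of its factors. -/
noncomputable def Hyp.prodHom (h : Hyp N) :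
    N →* ((T : {T : Subgroup G // IsFactor N T}) → (T : Subgroup G)) :=
  MonoidHom.pi fun T => h.proj T.2

lemma Hyp.prodHom_bijective (h : Hyp N) : Function.Bijective h.prodHom := by
  classical
  refine ⟨?_, fun f => ?_⟩
  · rw [injective_iff_map_eq_one]
    exact fun x hx => h.eq_one_of_proj fun T hT => congrFun hx ⟨T, hT⟩
  · have := Fintype.ofFinite {T : Subgroup G // IsFactor N T}
    suffices key : ∀ s : Finset {T : Subgroup G // IsFactor N T}, ∃ x : N,
        ∀ T, h.proj T.2 x = if T ∈ s then f T else 1 by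
      obtain ⟨x, hx⟩ := key Finset.univ
      exact ⟨x, funext fun T => (hx T).trans (by simp)⟩
    intro s
    induction s using Finset.induction with
    | empty => exact ⟨1, fun T => by simp⟩
    | @insert T₀ s hT₀ ih =>
      obtain ⟨x, hx⟩ := ih
      refine ⟨x * ⟨(f T₀ : G), T₀.2.1.1 (f T₀).2⟩, fun T => ?_⟩
      rw [map_mul, hx]
      by_cases e : T = T₀
      · subst e
        rw [if_neg hT₀, one_mul, if_pos (Finset.mem_insert_self _ _)]
        exact h.proj_self T.2 _
      · have hne : (T₀ : Subgroup G) ≠ T := fun e' => e (Subtype.ext e'.symm)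
        rw [h.proj_other T.2 T₀.2 hne (f T₀).2, mul_one]
        simp [Finset.mem_insert, e]

lemma Hyp.factor_simple (h : Hyp N) {T : Subgroup G} (hT : IsFactor N T) : IsSimpleGroup T := by
  have := h.normal
  have : Nontrivial T := (Subgroup.nontrivial_iff_ne_bot T).mpr hT.2.1
  refine ⟨fun K hK => ?_⟩
  have hinv : InvIn N (K.map T.subtype) := by
    refine ⟨(Subgroup.map_subtype_le K).trans hT.1.1, fun n hn y hy => ?_⟩
    obtain ⟨k, hk, rfl⟩ := hy
    obtain ⟨u, hu⟩ := h.exists_mul hT ⟨n, hn⟩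
    refine ⟨u * k * u⁻¹, hK.conj_mem k hk u, ?_⟩
    have hc := Subgroup.mem_centralizer_iff.mp (others_le_centralizer hT hu) (k : G) k.2
    simp only [Subgroup.coe_subtype, Subgroup.coe_mul, InvMemClass.coe_inv]
    calc (u : G) * k * (u : G)⁻¹
        = u * ((k : G) * ((u : G)⁻¹ * n)) * ((u : G)⁻¹ * n)⁻¹ * (u : G)⁻¹ := by group
      _ = n * k * n⁻¹ := by rw [hc]; group
  rcases hT.2.2 _ hinv (Subgroup.map_subtype_le K) with e | e
  · exact .inl ((Subgroup.map_eq_bot_iff_of_injective _ T.subtype_injective).mp e)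
  · exact .inr (Subgroup.map_injective T.subtype_injective
      (e.trans (by rw [← MonoidHom.range_eq_map, Subgroup.range_subtype])))

lemma Hyp.not_comm (h : Hyp N) {T : Subgroup G} (hT : IsFactor N T) :
    ¬ ∀ a ∈ T, ∀ b ∈ T, a * b = b * a := by
  have := h.normal
  intro hab
  apply hT.2.1
  rw [eq_bot_iff, ← h.cent]
  intro x hx
  have hle : N ≤ Subgroup.centralizer ({x} : Set G) := by
    rw [← h.orbit_sup hT]
    refine sSup_le ?_
    rintro _ ⟨u, rfl⟩ y hy
    rw [Subgroup.mem_centralizer_singleton_iff]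
    by_cases e : T.map (MulAut.conj u).toMonoidHom = T
    · exact hab y (e ▸ hy) x hx
    · exact ((hT.map_conj u).commute hT e hy hx).eq
  rw [Subgroup.mem_centralizer_iff]
  exact fun y hy => (Subgroup.mem_centralizer_singleton_iff.mp (hle hy))

end Cfsg.Agent.CompLen
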