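import Cfsg.Agent.Lib.CompLen.Regular
import Cfsg.Agent.Lib.CompLen.Diag

/-!
# The composition length of a permutation group
-/

set_option autoImplicit false

namespace Cfsg.Agent.CompLen

open MulAction

universe u v

lemma transitive_bound {G : Type u} [Group G] [Finite G] {X : Type v} [MulAction G X]
    [FaithfulSMul G X] [Finite X] (hB : BndBelow.{u} (Nat.card X)) [IsPretransitive G X]
    (x₀ : X) (hX : 2 ≤ Nat.card X) {l : ℕ} (h : Ser (⊤ : Subgroup G) l) :
    3 * l + 4 ≤ 4 * Nat.card X := by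
  classical
  set H := stabilizer G x₀ with hH
  have hHtop : H ≠ ⊤ := fun e => by
    have := index_stabilizer_of_transitive G x₀
    rw [← hH, e, Subgroup.index_top] at this
    omega
  by_cases hmax : ∃ M, H < M ∧ M ≠ ⊤
  · obtain ⟨M, h1, h2⟩ := hmax
    exact imprimitive_bound hB x₀ M h1 h2 h
  push Not at hmax
  have hcore : ∀ M : Subgroup G, M.Normal → M ≤ H → M = ⊥ := by
    intro M hM hle
    rw [Subgroup.eq_bot_iff_forall]
    intro m hm
    refine eq_of_smul_eq_smul fun y : X => ?_
    obtain ⟨g, rfl⟩ := exists_smul_eq G x₀ y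
    have h1 : g⁻¹ * m * g ∈ H := hle (by simpa using hM.conj_mem m hm g⁻¹)
    rw [hH, mem_stabilizer_iff, mul_smul, mul_smul, inv_smul_eq_iff] at h1
    rw [one_smul]
    exact h1
  have hsup : ∀ M : Subgroup G, M.Normal → M ≠ ⊥ → M ⊔ H = ⊤ := by
    intro M hM hne
    apply hmax
    refine lt_of_le_of_ne le_sup_right fun e => hne (hcore M hM ?_)
    exact e ▸ le_sup_left
  have htrans : ∀ M : Subgroup G, M.Normal → M ≠ ⊥ → IsPretransitive M X := by
    intro M hM hne
    have := hM
    refine (isPretransitive_iff_orbit_eq_univ x₀).mpr (Set.eq_univ_of_forall fun y => ?_)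
    obtain ⟨g, rfl⟩ := exists_smul_eq G x₀ y
    obtain ⟨m, hm, k, hk, rfl⟩ := Subgroup.mem_sup_of_normal_left.mp
      (hsup M hM hne ▸ Subgroup.mem_top g)
    refine ⟨⟨m, hm⟩, ?_⟩
    show m • x₀ = (m * k) • x₀
    rw [mul_smul, mem_stabilizer_iff.mp hk]
  by_cases hreg : ∃ M : Subgroup G, M.Normal ∧ M ≠ ⊥ ∧ M ⊓ H = ⊥
  · obtain ⟨M, hM, hne, hd⟩ := hreg
    have := hM
    have := htrans M hM hne
    exact regular_bound hX x₀ M hd h
  push Not at hreg
  have hnt : Nontrivial G := by
    by_contra hc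
    rw [not_nontrivial_iff_subsingleton] at hc
    exact hHtop ((Subgroup.eq_top_iff' H).mpr fun g => Subsingleton.elim (1 : G) g ▸ H.one_mem)
  obtain ⟨N, ⟨hN, hNne⟩, hNmin⟩ := Set.Finite.exists_minimalFor id
    {M : Subgroup G | M.Normal ∧ M ≠ ⊥} (Set.toFinite _)
    ⟨⊤, inferInstance, top_ne_bot⟩
  have := hN
  have := htrans N hN hNne
  have hcent : Subgroup.centralizer (N : Set G) = ⊥ := by
    by_contra hC
    refine hreg _ inferInstance hC (hcore _ ?_ inf_le_right)
    refine ⟨fun z hz g => ?_⟩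
    obtain ⟨m, hm, k, hk, rfl⟩ := Subgroup.mem_sup_of_normal_left.mp
      (hsup N hN hNne ▸ Subgroup.mem_top g)
    have h1 : k * z * k⁻¹ ∈ Subgroup.centralizer (N : Set G) :=
      (inferInstance : (Subgroup.centralizer (N : Set G)).Normal).conj_mem z hz.1 k
    have h2 : k * z * k⁻¹ ∈ H := H.mul_mem (H.mul_mem hk hz.2) (H.inv_mem hk)
    have e : m * k * z * (m * k)⁻¹ = k * z * k⁻¹ :=
      calc m * k * z * (m * k)⁻¹ = m * (k * z * k⁻¹) * m⁻¹ := by group
        _ = k * z * k⁻¹ := by
          rw [Subgroup.mem_centralizer_iff.mp h1 m hm, mul_inv_cancel_right]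
    rw [e]
    exact ⟨h1, h2⟩
  have s : Sit N H :=
    { hyp := ⟨hN, hNne, fun M hM hle => or_iff_not_imp_left.mpr fun hne =>
        le_antisymm hle (hNmin (j := M) ⟨hM, hne⟩ hle), hcent⟩
      sup := hsup N hN hNne
      inf := hreg N hN hNne
      not_le := fun hle => hNne (hcore N hN hle) }
  rcases Nat.lt_or_ge (Nat.card (Fac N)) 3 with ht | ht
  · exact few_factors hB x₀ hX s (by omega) h
  by_cases hP : ∀ T (hT : IsFactor N T), s.P hT = ⊤
  · exact diagonal_case hB x₀ s ht hP h
  · push Not at hP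
    obtain ⟨T, hT, hne⟩ := hP
    exact product_case hB x₀ s ht hT hne h

theorem bnd : ∀ n, Bnd.{u} n := by
  intro n
  induction n using Nat.strong_induction_on with
  | _ n ih =>
    intro G _ _ _ _ l h
    have hB : BndBelow.{u} (Nat.card (Fin n)) := by rw [Nat.card_fin]; exact ih
    rcases Nat.eq_zero_or_pos n with rfl | hn
    · haveI : Subsingleton G := ⟨fun a b => eq_of_smul_eq_smul fun x : Fin 0 => x.elim0⟩
      have h1 := h.le_omega'
      rw [Nat.card_of_subsingleton (1 : G), omega'_one] at h1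
      have h2 : orb G (Fin 0) = 0 := Nat.card_eq_zero.mpr (Or.inl ⟨fun q =>
        Quotient.inductionOn q fun x => x.elim0⟩)
      omega
    let x₀ : Fin n := ⟨0, hn⟩
    by_cases hex : ∃ y₀, y₀ ∉ orbit G x₀
    · obtain ⟨y₀, hy₀⟩ := hex
      simpa using intransitive_bound hB x₀ y₀ hy₀ h
    push Not at hex
    haveI : IsPretransitive G (Fin n) :=
      (isPretransitive_iff_orbit_eq_univ x₀).mpr (Set.eq_univ_of_forall hex)
    have ho : orb G (Fin n) ≤ 1 := Finite.card_le_one_iff_subsingleton.mpr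
      ((pretransitive_iff_subsingleton_quotient G (Fin n)).mp inferInstance)
    by_cases h1 : n = 1
    · subst h1
      haveI : Subsingleton G := ⟨fun a b => eq_of_smul_eq_smul fun x : Fin 1 =>
        Subsingleton.elim _ _⟩
      have h1 := h.le_omega'
      rw [Nat.card_of_subsingleton (1 : G), omega'_one] at h1
      omega
    · have := transitive_bound hB x₀ (by rw [Nat.card_fin]; omega) h
      rw [Nat.card_fin] at this
      omega

theorem chain_bound {G : Type u} {Ω : Type v} [Group G] [Finite G] [MulAction G Ω]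
    [FaithfulSMul G Ω] [Finite Ω] (l : ℕ) (H : Fin (l + 1) → Subgroup G) (h0 : H 0 = ⊥)
    (hl : H (Fin.last l) = ⊤)
    (hchain : ∀ i : Fin l,
      H i.castSucc < H i.succ ∧ ((H i.castSucc).subgroupOf (H i.succ)).Normal) :
    3 * l + 4 * orb G Ω ≤ 4 * Nat.card Ω := by
  have key : ∀ i : Fin (l + 1), Ser (H i) i := by
    intro i
    induction i using Fin.induction with
    | zero => rw [h0]; exact .base
    | succ i ih =>
      rw [Fin.val_castSucc] at ih
      rw [Fin.val_succ]
      refine ih.step (hchain i).1 fun g hg k hk => ?_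
      have := (hchain i).2.conj_mem ⟨k, (hchain i).1.le hk⟩ (Subgroup.mem_subgroupOf.mpr hk) ⟨g, hg⟩
      simpa [Subgroup.mem_subgroupOf] using this
  have h := key (Fin.last l)
  rw [hl, Fin.val_last] at h
  exact (bnd (Nat.card Ω)).apply rfl h

end Cfsg.Agent.CompLen
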