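import Cfsg.Agent.Lib.CompLen.Actions

/-!
# Composition length: point stabilizer with a normal complement
-/

set_option autoImplicit false

namespace Cfsg.Agent.CompLen

open MulAction

universe u v

variable {G : Type u} [Group G] [Finite G]

lemma omega'_prime {p : ℕ} (hp : p.Prime) : omega' p = 1 := by
  simp [omega', Nat.primeFactorsList_prime hp]

/-- A generating set of size at most `Ω(|N|)`. -/
lemma exists_small_gen (N : Subgroup G) : ∀ (k : ℕ) (A : Subgroup G), A ≤ N →
    Nat.card N ≤ Nat.card A + k → ∃ S : Finset G, (∀ g ∈ S, g ∈ N ∧ g ≠ 1) ∧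
      A ⊔ Subgroup.closure (S : Set G) = N ∧
      S.card + omega' (Nat.card A) ≤ omega' (Nat.card N) := by
  classical
  intro k
  induction k with
  | zero =>
    intro A hA hc
    have := Subgroup.eq_of_le_of_card_ge hA (by omega)
    exact ⟨∅, by simp, by simp [this], by simp [this]⟩
  | succ k ih =>
    intro A hA hc
    rcases eq_or_lt_of_le hA with e | hlt
    · exact ⟨∅, by simp, by simp [e], by simp [e]⟩
    obtain ⟨g, hgN, hgA⟩ := SetLike.exists_of_lt hlt
    let B := A ⊔ Subgroup.closure ({g} : Set G)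
    have hAB : A < B := lt_of_le_of_ne le_sup_left fun e => hgA (e ▸
      Subgroup.mem_sup_right (Subgroup.subset_closure rfl))
    have hBN : B ≤ N := sup_le hA ((Subgroup.closure_le N).mpr (by simpa using hgN))
    have hdvd := Subgroup.card_dvd_of_le hAB.le
    have hne : Nat.card A ≠ Nat.card B := fun e =>
      hAB.ne (Subgroup.eq_of_le_of_card_ge hAB.le e.ge)
    have hlt' : Nat.card A < Nat.card B :=
      lt_of_le_of_ne (Nat.le_of_dvd Nat.card_pos hdvd) hne
    obtain ⟨S, hS1, hS2, hS3⟩ := ih B hBN (by omega)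
    refine ⟨insert g S, ?_, ?_, ?_⟩
    · intro x hx
      rcases Finset.mem_insert.mp hx with rfl | hx
      · exact ⟨hgN, fun e => hgA (e ▸ A.one_mem)⟩
      · exact hS1 x hx
    · rw [Finset.coe_insert, Set.insert_eq, Subgroup.closure_union, ← sup_assoc]
      exact hS2
    · have := omega'_dvd_lt (Nat.card_pos (α := B)).ne' hdvd hne
      have := Finset.card_insert_le g S
      omega

/-- Successive centralizers of generators cut a stabilizer down. -/
lemma omega'_le_of_conj (N : Subgroup G) [N.Normal] (S : Finset G)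
    (hS : ∀ g ∈ S, g ∈ N ∧ g ≠ 1) (A : Subgroup G) :
    omega' (Nat.card A) ≤
      omega' (Nat.card ↥(A ⊓ Subgroup.centralizer (S : Set G))) +
        S.card * Nat.log 2 (Nat.card N - 1) := by
  classical
  induction S using Finset.induction with
  | empty =>
    have : A ⊓ Subgroup.centralizer ((∅ : Finset G) : Set G) = A :=
      inf_eq_left.mpr fun x _ => by simp [Subgroup.mem_centralizer_iff]
    rw [this]
    simp
  | @insert g S hg ih =>
    have ih := ih (fun x hx => hS x (Finset.mem_insert_of_mem hx))
    obtain ⟨hgN, hg1⟩ := hS g (Finset.mem_insert_self _ _)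
    set B := A ⊓ Subgroup.centralizer (S : Set G) with hB
    have hinf : A ⊓ Subgroup.centralizer ((insert g S : Finset G) : Set G) =
        B ⊓ Subgroup.centralizer ({g} : Set G) := by
      ext x
      simp only [hB, Subgroup.mem_inf, Subgroup.mem_centralizer_iff, Finset.coe_insert,
        Set.mem_insert_iff, Set.mem_singleton_iff, forall_eq_or_imp, forall_eq]
      tauto
    let C := (Subgroup.centralizer ({g} : Set G)).subgroupOf B
    have hmul : Nat.card ↥(B ⊓ Subgroup.centralizer ({g} : Set G)) * C.index = Nat.card B := by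
      rw [← Subgroup.card_mul_index C]
      congr 1
      refine Nat.card_congr ⟨fun x => ⟨⟨x, x.2.1⟩, x.2.2⟩, fun x => ⟨x.1, x.1.2, x.2⟩,
        fun x => rfl, fun x => rfl⟩
    have hidx : C.index ≤ Nat.card N - 1 := by
      have hc : Nat.card {x : N // x ≠ 1} = Nat.card N - 1 := by
        haveI : Fintype N := Fintype.ofFinite N
        rw [Nat.card_eq_fintype_card, Nat.card_eq_fintype_card]
        simp [Fintype.card_subtype_compl]
      rw [← hc, Subgroup.index_eq_card]
      let f : B ⧸ C → {x : N // x ≠ 1} := Quotient.lift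
        (fun a : B => ⟨⟨(a : G) * g * (a : G)⁻¹, (inferInstance : N.Normal).conj_mem g hgN a⟩,
          fun e => hg1 (conj_eq_one_iff.mp (congrArg Subtype.val e))⟩)
        (fun a b hab => by
          have hab' : a⁻¹ * b ∈ C := QuotientGroup.leftRel_apply.mp hab
          have := Subgroup.mem_centralizer_singleton_iff.mp (Subgroup.mem_subgroupOf.mp hab')
          simp only [Subgroup.coe_mul, InvMemClass.coe_inv] at this
          refine Subtype.ext (Subtype.ext ?_)
          calc (a : G) * g * (a : G)⁻¹
              = (a : G) * (g * ((a : G)⁻¹ * b)) * (b : G)⁻¹ := by group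
            _ = (a : G) * (((a : G)⁻¹ * b) * g) * (b : G)⁻¹ := by rw [this]
            _ = (b : G) * g * (b : G)⁻¹ := by group)
      refine Nat.card_le_card_of_injective f fun p q => ?_
      refine QuotientGroup.induction_on p fun a => QuotientGroup.induction_on q fun b hab => ?_
      rw [QuotientGroup.eq, Subgroup.mem_subgroupOf, Subgroup.mem_centralizer_singleton_iff]
      have e : (a : G) * g * (a : G)⁻¹ = (b : G) * g * (b : G)⁻¹ :=
        congrArg (fun z : {x : N // x ≠ 1} => ((z : N) : G)) hab
      simp only [Subgroup.coe_mul, InvMemClass.coe_inv]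
      calc (a : G)⁻¹ * b * g = (a : G)⁻¹ * ((b : G) * g * (b : G)⁻¹) * b := by group
        _ = g * ((a : G)⁻¹ * b) := by rw [← e]; group
    have hmono : omega' C.index ≤ Nat.log 2 (Nat.card N - 1) :=
      (omega'_le_log Subgroup.index_ne_zero_of_finite).trans (Nat.log_mono_right hidx)
    rw [hinf]
    rw [← hmul, omega'_mul Nat.card_pos.ne' Subgroup.index_ne_zero_of_finite] at ih
    rw [Finset.card_insert_of_notMem hg, Nat.succ_mul]
    omega

/-- The arithmetic. -/
lemma arith {n : ℕ} (hn : 2 ≤ n) :
    3 * (omega' n * (Nat.log 2 (n - 1) + 1)) + 4 ≤ 4 * n := by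
  have hD := omega'_le_log (n := n) (by omega)
  by_cases h16 : 16 ≤ n
  · have hL : Nat.log 2 (n - 1) ≤ Nat.log 2 n := Nat.log_mono_right (by omega)
    have h4 : 4 ≤ Nat.log 2 n := Nat.le_log_of_pow_le (by norm_num) (by simpa using h16)
    have hp : 2 ^ Nat.log 2 n ≤ n := Nat.pow_log_le_self 2 (by omega)
    have key : ∀ L, 4 ≤ L → 3 * (L * (L + 1)) + 4 ≤ 4 * 2 ^ L := by
      intro L hL
      induction L, hL using Nat.le_induction with
      | base => norm_num
      | succ L hL ih => rw [pow_succ]; nlinarith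
    have := key _ h4
    have hmul : omega' n * (Nat.log 2 (n - 1) + 1) ≤ Nat.log 2 n * (Nat.log 2 n + 1) :=
      Nat.mul_le_mul hD (by omega)
    omega
  · have h5 : omega' 5 = 1 := omega'_prime (by norm_num)
    have h9 : omega' 9 = 2 := by
      rw [show (9 : ℕ) = 3 * 3 by norm_num, omega'_mul (by norm_num) (by norm_num),
        omega'_prime (by norm_num)]
    interval_cases n <;> norm_num [Nat.log] at hD ⊢ <;> omega

variable {X : Type v} [MulAction G X] [FaithfulSMul G X] [Finite X]

/-- The bound for a transitive group with a regular normal subgroup. -/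
theorem regular_bound [IsPretransitive G X] (hX : 2 ≤ Nat.card X) (x₀ : X) (N : Subgroup G)
    [N.Normal] [IsPretransitive N X] (hdisj : N ⊓ stabilizer G x₀ = ⊥) {l : ℕ}
    (h : Ser (⊤ : Subgroup G) l) : 3 * l + 4 ≤ 4 * Nat.card X := by
  classical
  have hN : Nat.card N = Nat.card X := by
    rw [← index_stabilizer_of_transitive N x₀]
    have : stabilizer N x₀ = ⊥ := by
      rw [Subgroup.eq_bot_iff_forall]
      intro k hk
      have hk' : (k : G) ∈ N ⊓ stabilizer G x₀ := ⟨k.2, hk⟩
      rw [hdisj, Subgroup.mem_bot] at hk'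
      exact Subtype.ext hk'
    rw [this, Subgroup.index_bot]
  obtain ⟨S, hS1, hS2, hS3⟩ := exists_small_gen N (Nat.card N) ⊥ bot_le (by omega)
  rw [bot_sup_eq] at hS2
  rw [Subgroup.card_bot, omega'_one, add_zero, hN] at hS3
  have hbot : stabilizer G x₀ ⊓ Subgroup.centralizer (S : Set G) = ⊥ := by
    rw [Subgroup.eq_bot_iff_forall]
    rintro k ⟨hk1, hk2⟩
    rw [← Subgroup.centralizer_closure, hS2] at hk2
    refine eq_of_smul_eq_smul fun y : X => ?_
    obtain ⟨g, rfl⟩ := exists_smul_eq N x₀ y
    rw [one_smul, Subgroup.smul_def, ← mul_smul,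
      ← Subgroup.mem_centralizer_iff.mp hk2 (g : G) g.2, mul_smul, mem_stabilizer_iff.mp hk1]
  have h1 := omega'_le_of_conj N S hS1 (stabilizer G x₀)
  rw [hbot, Subgroup.card_bot, omega'_one, zero_add, hN] at h1
  obtain ⟨a, ha, hla⟩ := h.restrict_top (stabilizer G x₀)
  rw [index_stabilizer_of_transitive] at hla
  have h2 := ha.le_omega'
  have h3 : S.card * Nat.log 2 (Nat.card X - 1) ≤ omega' (Nat.card X) * Nat.log 2 (Nat.card X - 1) :=
    Nat.mul_le_mul_right _ hS3
  have h4 := arith hX
  rw [mul_add, mul_one] at h4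
  omega

end Cfsg.Agent.CompLen
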