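import Cfsg.Agent.Lib.CompLen.Actions
import Cfsg.Agent.Lib.CompLen.Factors

/-!
# Composition length: primitive groups whose socle has trivial centralizer
-/

set_option autoImplicit false

namespace Cfsg.Agent.CompLen

open MulAction

universe u v

section
variable {G : Type u} [Group G]

lemma conj_mem_map (g : G) {T : Subgroup G} {y : G} (hy : y ∈ T) :
    g * y * g⁻¹ ∈ T.map (MulAut.conj g).toMonoidHom :=
  ⟨y, hy, rfl⟩

variable {N : Subgroup G}

lemma InvIn.map_conj_self {K : Subgroup G} (hK : InvIn N K) {m : G} (hm : m ∈ N) :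
    K.map (MulAut.conj m).toMonoidHom = K := by
  apply le_antisymm
  · rintro _ ⟨k, hk, rfl⟩
    exact hK.2 m hm k hk
  · intro k hk
    exact ⟨m⁻¹ * k * m, by simpa using hK.2 m⁻¹ (inv_mem hm) k hk, by simp [mul_assoc]⟩

lemma others_conj [N.Normal] {T : Subgroup G} (g : G) {y : G} (hy : y ∈ others N T) :
    g * y * g⁻¹ ∈ others N (T.map (MulAut.conj g).toMonoidHom) := by
  suffices others N T ≤
      (others N (T.map (MulAut.conj g).toMonoidHom)).comap (MulAut.conj g).toMonoidHom by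
    exact this hy
  refine sSup_le fun K hK => ?_
  rw [← Subgroup.map_le_iff_le_comap]
  refine le_sSup ⟨hK.1.map_conj g, fun e => hK.2 ?_⟩
  exact Subgroup.map_injective (MulAut.conj g).injective e

variable [Finite G]

lemma Hyp.proj_conj (h : Hyp N) {T T' : Subgroup G} (hT : IsFactor N T) (hT' : IsFactor N T')
    {g : G} (hg : T.map (MulAut.conj g).toMonoidHom = T') (x : N) :
    (h.proj hT' ⟨g * x * g⁻¹, h.normal.conj_mem x x.2 g⟩ : G) = g * h.proj hT x * g⁻¹ := by
  have := h.normal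
  have := h.unique hT' (t' := ⟨g * h.proj hT x * g⁻¹, hg ▸ conj_mem_map g (h.proj hT x).2⟩)
    (h.proj_spec hT' ⟨g * x * g⁻¹, h.normal.conj_mem x x.2 g⟩) (by
      have h1 := others_conj g (h.proj_spec hT x)
      rw [hg] at h1
      have e : g * ((h.proj hT x : G)⁻¹ * x) * g⁻¹ =
          (g * h.proj hT x * g⁻¹)⁻¹ * (g * x * g⁻¹) := by group
      rw [e] at h1
      exact h1)
  exact congrArg Subtype.val this

end

/-- The factors. -/
abbrev Fac {G : Type u} [Group G] (N : Subgroup G) := {T : Subgroup G // IsFactor N T}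

/-- The situation of a primitive group without regular normal subgroup. -/
structure Sit {G : Type u} [Group G] (N H : Subgroup G) : Prop where
  hyp : Hyp N
  sup : N ⊔ H = ⊤
  inf : N ⊓ H ≠ ⊥
  not_le : ¬ N ≤ H

variable {G : Type u} [Group G] [Finite G] {N H : Subgroup G}

lemma Sit.exists_mul (s : Sit N H) (g : G) : ∃ m ∈ N, ∃ k ∈ H, m * k = g := by
  have := s.hyp.normal
  exact Subgroup.mem_sup_of_normal_left.mp (s.sup ▸ Subgroup.mem_top g)

lemma Sit.exists_conj (s : Sit N H) {T T' : Subgroup G} (hT : IsFactor N T)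
    (hT' : IsFactor N T') : ∃ k ∈ H, T.map (MulAut.conj k).toMonoidHom = T' := by
  have := s.hyp.normal
  obtain ⟨g, rfl⟩ := s.hyp.exists_conj hT hT'
  obtain ⟨m, hm, k, hk, rfl⟩ := s.exists_mul g
  exact ⟨k, hk, by rw [← map_conj_conj, (hT.map_conj k).1.map_conj_self hm]⟩

/-- The projection of `N ⊓ H` on a factor. -/
noncomputable def Sit.P (s : Sit N H) {T : Subgroup G} (hT : IsFactor N T) : Subgroup T :=
  (H.subgroupOf N).map (s.hyp.proj hT)

lemma Sit.mem_P (s : Sit N H) {T : Subgroup G} (hT : IsFactor N T) {x : G} (hxN : x ∈ N)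
    (hxH : x ∈ H) : s.hyp.proj hT ⟨x, hxN⟩ ∈ s.P hT :=
  ⟨⟨x, hxN⟩, Subgroup.mem_subgroupOf.mpr hxH, rfl⟩

lemma Sit.conj_mem_P (s : Sit N H) {T T' : Subgroup G} (hT : IsFactor N T) (hT' : IsFactor N T')
    {k : G} (hk : k ∈ H) (e : T.map (MulAut.conj k).toMonoidHom = T') {t : T} (ht : t ∈ s.P hT) :
    (⟨k * t * k⁻¹, e ▸ conj_mem_map k t.2⟩ : T') ∈ s.P hT' := by
  obtain ⟨x, hx, rfl⟩ := ht
  have h1 := s.hyp.proj_conj hT hT' e x
  refine ⟨⟨k * x * k⁻¹, s.hyp.normal.conj_mem x x.2 k⟩, ?_, Subtype.ext h1⟩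
  exact Subgroup.mem_subgroupOf.mpr (H.mul_mem (H.mul_mem hk hx) (H.inv_mem hk))

lemma Sit.card_P (s : Sit N H) {T T' : Subgroup G} (hT : IsFactor N T) (hT' : IsFactor N T') :
    Nat.card (s.P hT) = Nat.card (s.P hT') := by
  suffices key : ∀ {A B : Subgroup G} (hA : IsFactor N A) (hB : IsFactor N B),
      Nat.card (s.P hA) ≤ Nat.card (s.P hB) from le_antisymm (key hT hT') (key hT' hT)
  intro A B hA hB
  obtain ⟨k, hk, e⟩ := s.exists_conj hA hB
  refine Nat.card_le_card_of_injective (fun t : s.P hA =>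
    (⟨_, s.conj_mem_P hA hB hk e t.2⟩ : s.P hB)) fun t u htu => ?_
  have : k * ((t : A) : G) * k⁻¹ = k * ((u : A) : G) * k⁻¹ :=
    congrArg (fun z : s.P hB => ((z : B) : G)) htu
  exact Subtype.ext (Subtype.ext (by simpa using this))

lemma Sit.card_T (s : Sit N H) {T T' : Subgroup G} (hT : IsFactor N T) (hT' : IsFactor N T') :
    Nat.card T' = Nat.card T := by
  obtain ⟨g, rfl⟩ := s.hyp.exists_conj hT hT'
  exact Subgroup.card_map_of_injective (MulAut.conj g).injective

lemma Sit.card_N (s : Sit N H) {T : Subgroup G} (hT : IsFactor N T) :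
    Nat.card N = Nat.card T ^ Nat.card (Fac N) := by
  classical
  have := Fintype.ofFinite (Fac N)
  rw [Nat.card_congr (Equiv.ofBijective _ s.hyp.prodHom_bijective), Nat.card_pi,
    Finset.prod_congr rfl (fun (T' : Fac N) _ => s.card_T hT T'.2), Finset.prod_const,
    Finset.card_univ, Nat.card_eq_fintype_card (α := Fac N)]

lemma Sit.P_ne_bot (s : Sit N H) {T : Subgroup G} (hT : IsFactor N T) : s.P hT ≠ ⊥ := by
  intro hbot
  apply s.inf
  rw [Subgroup.eq_bot_iff_forall]
  rintro x ⟨hxN, hxH⟩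
  have h1 : (⟨x, hxN⟩ : N) = 1 := s.hyp.eq_one_of_proj fun T' hT' => by
    have hc := s.card_P hT hT'
    rw [hbot, Subgroup.card_bot] at hc
    have h2 := s.mem_P hT' hxN hxH
    rw [(Subgroup.eq_bot_of_card_eq _ hc.symm), Subgroup.mem_bot] at h2
    exact h2
  exact congrArg Subtype.val h1

end Cfsg.Agent.CompLen
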